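import Groth.Agent.ResProp.EF.K83.FinDatum
import Mathlib.RingTheory.HopfAlgebra.GroupLike

/-!
# The coaction on a localisation `D_s`, `s` semi-invariant

`coLoc : K83.CoAlg R A Ds` for `c : K83.CoAlg R A D`, `c.ρ s = s ⊗ χ`, `χ` group-like, `IsLocalization.Away s Ds`, with
`coLoc_compat` (word for word the field `compat` of `K83.GalLoc`).
-/

set_option autoImplicit false

universe u

open TensorProduct

noncomputable section

namespace Groth.Agent.ResProp.EF.K541

section CoLoc

variable {R A D : Type u} [CommRing R] [CommRing A] [HopfAlgebra R A] [CommRing D] [Algebra R D]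
  (c : K83.CoAlg R A D) {s : D} {χ : A}
  (Ds : Type u) [CommRing Ds] [Algebra R Ds] [Algebra D Ds] [IsScalarTower R D Ds]

/-- `D → D_s ⊗ A` -/
def preLoc : D →ₐ[R] Ds ⊗[R] A :=
  (Algebra.TensorProduct.map (IsScalarTower.toAlgHom R D Ds) (AlgHom.id R A)).comp c.ρ

theorem preLoc_apply (x : D) : preLoc c Ds x =
    Algebra.TensorProduct.map (IsScalarTower.toAlgHom R D Ds) (AlgHom.id R A) (c.ρ x) := rfl

variable [IsLocalization.Away s Ds]

include s in
theorem isUnit_preLoc (hχ : IsGroupLikeElem R χ) (hs : c.ρ s = s ⊗ₜ[R] χ) : IsUnit (preLoc c Ds s) := by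
  rw [preLoc_apply, hs, Algebra.TensorProduct.map_tmul]
  have h1 : IsUnit (algebraMap D Ds s) := IsLocalization.Away.algebraMap_isUnit s
  have h2 : ((IsScalarTower.toAlgHom R D Ds) s) ⊗ₜ[R] ((AlgHom.id R A) χ) =
      (algebraMap D Ds s ⊗ₜ[R] (1 : A)) * ((1 : Ds) ⊗ₜ[R] χ) := by
    rw [Algebra.TensorProduct.tmul_mul_tmul, mul_one, one_mul]; rfl
  rw [h2]
  exact (h1.map (Algebra.TensorProduct.includeLeft : Ds →ₐ[R] Ds ⊗[R] A)).mul
    (hχ.isUnit.map (Algebra.TensorProduct.includeRight : A →ₐ[R] Ds ⊗[R] A))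

/-- the coaction on `D_s`, as a map of algebras -/
def rhoLoc (hχ : IsGroupLikeElem R χ) (hs : c.ρ s = s ⊗ₜ[R] χ) : Ds →ₐ[R] Ds ⊗[R] A :=
  IsLocalization.Away.liftAlgHom (S := Ds) s (f := preLoc c Ds) (isUnit_preLoc c Ds hχ hs)

theorem rhoLoc_algebraMap (hχ : IsGroupLikeElem R χ) (hs : c.ρ s = s ⊗ₜ[R] χ) (x : D) :
    rhoLoc c Ds hχ hs (algebraMap D Ds x) =
      Algebra.TensorProduct.map (IsScalarTower.toAlgHom R D Ds) (AlgHom.id R A) (c.ρ x) :=
  IsLocalization.Away.lift_eq (S := Ds) s (isUnit_preLoc c Ds hχ hs) x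

omit [Algebra R D] [IsScalarTower R D Ds] in
include s in
/-- two maps of algebras out of `D_s` are equal as soon as they agree on `D` -/
theorem algHom_ext_away {T : Type*} [CommRing T] [Algebra R T] (f g : Ds →ₐ[R] T)
    (h : ∀ x : D, f (algebraMap D Ds x) = g (algebraMap D Ds x)) : f = g := by
  have : (f : Ds →+* T) = g := IsLocalization.ringHom_ext (Submonoid.powers s) (RingHom.ext h)
  exact AlgHom.ext fun x => DFunLike.congr_fun this x

theorem assoc_map_eq {E : Type u} [CommRing E] [Algebra R E] (f : D →ₐ[R] E) (z : (D ⊗[R] A) ⊗[R] A) :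
    TensorProduct.assoc R E A A
        (Algebra.TensorProduct.map (Algebra.TensorProduct.map f (AlgHom.id R A)) (AlgHom.id R A) z) =
      Algebra.TensorProduct.map f (AlgHom.id R (A ⊗[R] A)) (TensorProduct.assoc R D A A z) := by
  induction z using TensorProduct.induction_on with
  | zero => simp only [map_zero]
  | add x y hx hy => simp only [map_add, hx, hy]
  | tmul x a =>
    induction x using TensorProduct.induction_on with
    | zero => simp only [map_zero, TensorProduct.zero_tmul]
    | add x y hx hy => simp only [map_add, TensorProduct.add_tmul, hx, hy]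
    | tmul x b =>
      simp only [Algebra.TensorProduct.map_tmul, TensorProduct.assoc_tmul, AlgHom.coe_id, id_eq]

/-- **the coaction on `D_s`** -/
def coLoc (hχ : IsGroupLikeElem R χ) (hs : c.ρ s = s ⊗ₜ[R] χ) : K83.CoAlg R A Ds where
  ρ := rhoLoc c Ds hχ hs
  coassoc := by
    have h : ((Algebra.TensorProduct.assoc R R R Ds A A).toAlgHom.comp
        ((Algebra.TensorProduct.map (rhoLoc c Ds hχ hs) (AlgHom.id R A)).comp (rhoLoc c Ds hχ hs)) :
          Ds →ₐ[R] Ds ⊗[R] (A ⊗[R] A)) =
        (Algebra.TensorProduct.map (AlgHom.id R Ds) (Bialgebra.comulAlgHom R A)).comp (rhoLoc c Ds hχ hs) := by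
      refine algHom_ext_away (s := s) Ds _ _ fun x => ?_
      have h1 : Algebra.TensorProduct.map (rhoLoc c Ds hχ hs) (AlgHom.id R A)
          (rhoLoc c Ds hχ hs (algebraMap D Ds x)) =
          Algebra.TensorProduct.map (Algebra.TensorProduct.map (IsScalarTower.toAlgHom R D Ds) (AlgHom.id R A))
            (AlgHom.id R A) (c.ρ.toLinearMap.rTensor A (c.ρ x)) := by
        rw [rhoLoc_algebraMap]
        generalize c.ρ x = z
        induction z using TensorProduct.induction_on with
        | zero => simp only [map_zero]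
        | add x y hx hy => simp only [map_add, hx, hy]
        | tmul x a =>
          rw [LinearMap.rTensor_tmul, Algebra.TensorProduct.map_tmul, Algebra.TensorProduct.map_tmul,
            Algebra.TensorProduct.map_tmul]
          congr 1
          exact rhoLoc_algebraMap c Ds hχ hs x
      have h2 : ∀ z : D ⊗[R] A, Algebra.TensorProduct.map (AlgHom.id R Ds) (Bialgebra.comulAlgHom R A)
          (Algebra.TensorProduct.map (IsScalarTower.toAlgHom R D Ds) (AlgHom.id R A) z) =
          Algebra.TensorProduct.map (IsScalarTower.toAlgHom R D Ds) (AlgHom.id R (A ⊗[R] A))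
            ((Coalgebra.comul (R := R) (A := A)).lTensor D z) := by
        intro z
        induction z using TensorProduct.induction_on with
        | zero => simp only [map_zero]
        | add x y hx hy => simp only [map_add, hx, hy]
        | tmul x a => rfl
      change TensorProduct.assoc R Ds A A (Algebra.TensorProduct.map (rhoLoc c Ds hχ hs) (AlgHom.id R A)
          (rhoLoc c Ds hχ hs (algebraMap D Ds x))) =
        Algebra.TensorProduct.map (AlgHom.id R Ds) (Bialgebra.comulAlgHom R A)
          (rhoLoc c Ds hχ hs (algebraMap D Ds x))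
      rw [h1, assoc_map_eq, c.coassoc, rhoLoc_algebraMap, h2]
    intro x
    exact DFunLike.congr_fun h x
  counit := by
    have h : (Algebra.TensorProduct.map (AlgHom.id R Ds) (Bialgebra.counitAlgHom R A)).comp (rhoLoc c Ds hχ hs) =
        (Algebra.TensorProduct.includeLeft : Ds →ₐ[R] Ds ⊗[R] R) := by
      refine algHom_ext_away (s := s) Ds _ _ fun x => ?_
      have h2 : ∀ z : D ⊗[R] A, Algebra.TensorProduct.map (AlgHom.id R Ds) (Bialgebra.counitAlgHom R A)
          (Algebra.TensorProduct.map (IsScalarTower.toAlgHom R D Ds) (AlgHom.id R A) z) =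
          Algebra.TensorProduct.map (IsScalarTower.toAlgHom R D Ds) (AlgHom.id R R)
            ((Coalgebra.counit (R := R) (A := A)).lTensor D z) := by
        intro z
        induction z using TensorProduct.induction_on with
        | zero => simp only [map_zero]
        | add x y hx hy => simp only [map_add, hx, hy]
        | tmul x a => rfl
      rw [AlgHom.comp_apply, rhoLoc_algebraMap, h2, c.counit]
      rfl
    intro x
    exact DFunLike.congr_fun h x

theorem coLoc_ρ (hχ : IsGroupLikeElem R χ) (hs : c.ρ s = s ⊗ₜ[R] χ) : (coLoc c Ds hχ hs).ρ = rhoLoc c Ds hχ hs := rfl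

theorem coLoc_compat (hχ : IsGroupLikeElem R χ) (hs : c.ρ s = s ⊗ₜ[R] χ) (x : D) :
    (coLoc c Ds hχ hs).ρ (algebraMap D Ds x) =
      Algebra.TensorProduct.map (IsScalarTower.toAlgHom R D Ds) (AlgHom.id R A) (c.ρ x) :=
  rhoLoc_algebraMap c Ds hχ hs x

include s in
/-- the coaction on `D_s` is unique -/
theorem coLoc_unique (ρ₁ ρ₂ : Ds →ₐ[R] Ds ⊗[R] A)
    (h₁ : ∀ x : D, ρ₁ (algebraMap D Ds x) =
      Algebra.TensorProduct.map (IsScalarTower.toAlgHom R D Ds) (AlgHom.id R A) (c.ρ x))
    (h₂ : ∀ x : D, ρ₂ (algebraMap D Ds x) =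
      Algebra.TensorProduct.map (IsScalarTower.toAlgHom R D Ds) (AlgHom.id R A) (c.ρ x)) : ρ₁ = ρ₂ :=
  algHom_ext_away (s := s) Ds _ _ fun x => by rw [h₁, h₂]

end CoLoc

end Groth.Agent.ResProp.EF.K541
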