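import Groth.Agent.ResProp.EF.K541.Bridge2
import Groth.Agent.ResProp.EF.K541.CoLoc
import Groth.Agent.ResProp.EF.K199.GalPts

/-!
# The FIN fields of `Arch.CoverDatum` from data over `k`

`k → R → D`, `O` a commutative Hopf algebra over `k`, `c : K83.CoAlg k O D` with `R`-linear coaction (`hc`).
* `coR c hc : K83.CoAlg R (R ⊗[k] O) D` and `coR_eq` (= field `cR_eq` of `Arch.CoverDatum`).
* `galLocR` : `K83.GalLoc (coR c hc) s` from points in `k`-form, `galLocOfK` : from `K83.GalLoc c s` over `k`.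
* `LocK`, `FinK` (the FIN datum in `k`-form) and `FinK.toR : K83.FinDatum R (R ⊗[k] O) D (coR c hc)`.
-/

set_option autoImplicit false
set_option linter.style.haveILetI false
set_option linter.unusedSectionVars false

universe u

open TensorProduct

noncomputable section

namespace Groth.Agent.ResProp.EF.K541

open Groth.Agent.ResProp.EF.K805 Groth.Agent.ResProp.EF.K199

section CoR

variable {k R O D : Type u} [CommRing k] [CommRing R] [Algebra k R] [CommRing O] [HopfAlgebra k O]
  [CommRing D] [Algebra k D] [Algebra R D] [IsScalarTower k R D]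

/-- the coaction over `k` is `R`-linear -/
abbrev LinR (R : Type u) [CommRing R] [Algebra R D] (c : K83.CoAlg k O D) : Prop :=
  ∀ r : R, c.ρ (algebraMap R D r) = algebraMap R D r ⊗ₜ[k] (1 : O)

theorem rlin_of (c : K83.CoAlg k O D) (hc : LinR R c) : RLin k O R c.comod := by
  intro r n
  change c.ρ (r • n) = r • c.ρ n
  rw [Algebra.smul_def, map_mul, hc, Algebra.smul_def]
  rfl

/-- **the coaction over `R`** -/
def coR (c : K83.CoAlg k O D) (hc : LinR R c) : K83.CoAlg R (R ⊗[k] O) D :=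
  coAlgR c.comod (rlin_of c hc) (map_one c.ρ) (map_mul c.ρ)

theorem coR_ρ (c : K83.CoAlg k O D) (hc : LinR R c) (x : D) :
    (coR c hc).ρ x = up k O (LinearMap.id : D →ₗ[R] D) (c.ρ x) := rfl

theorem cancel_up (z : D ⊗[k] O) :
    Algebra.TensorProduct.cancelBaseChange k R R D O (up k O (LinearMap.id : D →ₗ[R] D) z) = z := by
  induction z using TensorProduct.induction_on with
  | zero => simp only [map_zero]
  | add x y hx hy => simp only [map_add, hx, hy]
  | tmul x a => rw [up_tmul]; simp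

/-- = field `cR_eq` of `Arch.CoverDatum` -/
theorem coR_eq (c : K83.CoAlg k O D) (hc : LinR R c) (z : D) :
    Algebra.TensorProduct.cancelBaseChange k R R D O ((coR c hc).ρ z) = c.ρ z := cancel_up _

theorem up_eq_cancel_symm (z : D ⊗[k] O) :
    up k O (LinearMap.id : D →ₗ[R] D) z = (Algebra.TensorProduct.cancelBaseChange k R R D O).symm z := by
  rw [AlgEquiv.eq_symm_apply, cancel_up]

/-- a coaction over `R` with `cR_eq` is `coR` -/
theorem eq_coR (c : K83.CoAlg k O D) (hc : LinR R c) (cR : K83.CoAlg R (R ⊗[k] O) D)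
    (h : ∀ z : D, Algebra.TensorProduct.cancelBaseChange k R R D O (cR.ρ z) = c.ρ z) : cR = coR c hc := by
  have h1 : cR.ρ = (coR c hc).ρ := AlgHom.ext fun z =>
    (Algebra.TensorProduct.cancelBaseChange k R R D O).injective (by rw [h, coR_eq])
  cases cR
  cases hh : coR c hc
  rw [hh] at h1
  cases h1
  rfl

/-- conversely, a coaction over `R` gives a coaction over `k` with these properties -/
theorem up_injective : Function.Injective (up k O (LinearMap.id : D →ₗ[R] D)) := fun x y h => by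
  have := congrArg (Algebra.TensorProduct.cancelBaseChange k R R D O) h
  rwa [cancel_up, cancel_up] at this

omit [Algebra R D] [IsScalarTower k R D] [CommRing D] [Algebra k D] in
/-- group-like elements -/
theorem isGroupLike_one_tmul {χ : O} (hχ : IsGroupLikeElem k χ) :
    IsGroupLikeElem R ((1 : R) ⊗ₜ[k] χ) where
  counit_eq_one := by
    rw [TensorProduct.counit_tmul]
    simp [hχ.counit_eq_one]
  comul_eq_tmul_self := by
    rw [comul_one_tmul, hχ.comul_eq_tmul_self, AlgebraTensorModule.distribBaseChange_tmul]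

/-- semi-invariants -/
theorem coR_semi (c : K83.CoAlg k O D) (hc : LinR R c) {s : D} {χ : O} (hs : c.ρ s = s ⊗ₜ[k] χ) :
    (coR c hc).ρ s = s ⊗ₜ[R] ((1 : R) ⊗ₜ[k] χ) := by
  rw [coR_ρ, hs, up_tmul]; rfl

/-- invariants -/
theorem coR_inv (c : K83.CoAlg k O D) (hc : LinR R c) {s : D} (hs : c.ρ s = s ⊗ₜ[k] (1 : O)) :
    (coR c hc).ρ s = s ⊗ₜ[R] (1 : R ⊗[k] O) := coR_semi c hc hs

section Points

variable {T : Type u} [CommRing T] [Algebra R T] [Algebra k T] [IsScalarTower k R T]

variable (R) in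
/-- a point of `Spec O` as a point of `Spec (R ⊗ O)` -/
def upPt (h : O →ₐ[k] T) : R ⊗[k] O →ₐ[R] T :=
  Algebra.TensorProduct.lift (Algebra.ofId R T) h (fun _ _ => Commute.all _ _)

theorem upPt_one_tmul (h : O →ₐ[k] T) (a : O) : upPt R h ((1 : R) ⊗ₜ[k] a) = h a := by
  simp [upPt]

theorem pair_up (f : D →ₐ[R] T) (h' : R ⊗[k] O →ₐ[R] T) (h : O →ₐ[k] T) (hh : ∀ a : O, h' ((1 : R) ⊗ₜ[k] a) = h a)
    (z : D ⊗[k] O) : pair f h' (up k O (LinearMap.id : D →ₗ[R] D) z) = pair (f.restrictScalars k) h z := by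
  induction z using TensorProduct.induction_on with
  | zero => simp only [map_zero]
  | add x y hx hy => simp only [map_add, hx, hy]
  | tmul x a =>
    rw [up_tmul, Algebra.TensorProduct.lift_tmul, Algebra.TensorProduct.lift_tmul, hh]
    rfl

omit [CommRing D] [Algebra k D] [Algebra R D] [IsScalarTower k R D] in
theorem pt_ext {h₁ h₂ : R ⊗[k] O →ₐ[R] T} (h : ∀ a : O, h₁ ((1 : R) ⊗ₜ[k] a) = h₂ ((1 : R) ⊗ₜ[k] a)) : h₁ = h₂ :=
  Algebra.TensorProduct.ext (by ext) (AlgHom.ext h)

end Points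

/-- the point condition in `k`-form gives the point condition over `R` -/
theorem pts_R {Ds B : Type u} [CommRing Ds] [Algebra k Ds] [Algebra R Ds] [IsScalarTower k R Ds]
    [CommRing B] [Algebra B Ds] (cs : K83.CoAlg k O Ds) (hcs : LinR R cs)
    (H : ∀ (T : Type u) [CommRing T] [Algebra k T] (f f' : Ds →ₐ[k] T),
      (∀ b : B, f (algebraMap B Ds b) = f' (algebraMap B Ds b)) →
      ∃! h : O →ₐ[k] T, ∀ d, f' d = pair f h (cs.ρ d))
    (T : Type u) [CommRing T] [Algebra R T] (f f' : Ds →ₐ[R] T)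
    (hf : ∀ b : B, f (algebraMap B Ds b) = f' (algebraMap B Ds b)) :
    ∃! h : R ⊗[k] O →ₐ[R] T, ∀ d, f' d = pair f h ((coR cs hcs).ρ d) := by
  letI : Algebra k T := ((algebraMap R T).comp (algebraMap k R)).toAlgebra
  haveI : IsScalarTower k R T := IsScalarTower.of_algebraMap_eq' rfl
  obtain ⟨h, h1, h2⟩ := H T (f.restrictScalars k) (f'.restrictScalars k) hf
  refine ⟨upPt R h, fun d => ?_, fun h' hh' => ?_⟩
  · rw [coR_ρ, pair_up f (upPt R h) h (upPt_one_tmul h)]
    exact h1 d
  · have e : (h'.restrictScalars k).comp (Algebra.TensorProduct.includeRight : O →ₐ[k] R ⊗[k] O) = h := by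
      refine h2 _ fun d => ?_
      rw [← pair_up f h' ((h'.restrictScalars k).comp Algebra.TensorProduct.includeRight) (fun a => rfl)]
      exact hh' d
    refine pt_ext fun a => ?_
    rw [upPt_one_tmul, ← e]
    rfl

section Loc

variable {Ds : Type u} [CommRing Ds] [Algebra k Ds] [Algebra R Ds] [Algebra D Ds]
  [IsScalarTower k R Ds] [IsScalarTower k D Ds] [IsScalarTower R D Ds]

/-- the coaction on `D_s` is `R`-linear -/
theorem linR_loc (c : K83.CoAlg k O D) (hc : LinR R c) (cs : K83.CoAlg k O Ds)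
    (compat : ∀ x : D, cs.ρ (algebraMap D Ds x) =
      Algebra.TensorProduct.map (IsScalarTower.toAlgHom k D Ds) (AlgHom.id k O) (c.ρ x)) : LinR R cs := by
  intro r
  rw [IsScalarTower.algebraMap_apply R D Ds, compat, hc, Algebra.TensorProduct.map_tmul]
  rfl

theorem map_up (z : D ⊗[k] O) :
    up k O (LinearMap.id : Ds →ₗ[R] Ds)
        (Algebra.TensorProduct.map (IsScalarTower.toAlgHom k D Ds) (AlgHom.id k O) z) =
      Algebra.TensorProduct.map (IsScalarTower.toAlgHom R D Ds) (AlgHom.id R (R ⊗[k] O))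
        (up k O (LinearMap.id : D →ₗ[R] D) z) := by
  induction z using TensorProduct.induction_on with
  | zero => simp only [map_zero]
  | add x y hx hy => simp only [map_add, hx, hy]
  | tmul x a =>
    rw [Algebra.TensorProduct.map_tmul, up_tmul, up_tmul, Algebra.TensorProduct.map_tmul]
    rfl

theorem compat_R (c : K83.CoAlg k O D) (hc : LinR R c) (cs : K83.CoAlg k O Ds) (hcs : LinR R cs)
    (compat : ∀ x : D, cs.ρ (algebraMap D Ds x) =
      Algebra.TensorProduct.map (IsScalarTower.toAlgHom k D Ds) (AlgHom.id k O) (c.ρ x)) (x : D) :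
    (coR cs hcs).ρ (algebraMap D Ds x) =
      Algebra.TensorProduct.map (IsScalarTower.toAlgHom R D Ds) (AlgHom.id R (R ⊗[k] O)) ((coR c hc).ρ x) := by
  rw [coR_ρ, compat, map_up, coR_ρ]

end Loc

/-- **`GalLoc` over `R` from points over `k`** -/
def galLocR (c : K83.CoAlg k O D) (hc : LinR R c) {s : D}
    (Ds : Type u) [CommRing Ds] [Algebra k Ds] [Algebra R Ds] [Algebra D Ds]
    [IsScalarTower k R Ds] [IsScalarTower k D Ds] [IsScalarTower R D Ds] [IsLocalization.Away s Ds]
    (cs : K83.CoAlg k O Ds)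
    (compat : ∀ x : D, cs.ρ (algebraMap D Ds x) =
      Algebra.TensorProduct.map (IsScalarTower.toAlgHom k D Ds) (AlgHom.id k O) (c.ρ x))
    (B : Type u) [CommRing B] [Algebra R B] [Algebra B Ds] [IsScalarTower R B Ds] [Module.FaithfullyFlat B Ds]
    (hρ : ∀ b : B, cs.ρ (algebraMap B Ds b) = algebraMap B Ds b ⊗ₜ[k] (1 : O))
    (H : ∀ (T : Type u) [CommRing T] [Algebra k T] (f f' : Ds →ₐ[k] T),
      (∀ b : B, f (algebraMap B Ds b) = f' (algebraMap B Ds b)) →
      ∃! h : O →ₐ[k] T, ∀ d, f' d = pair f h (cs.ρ d)) : K83.GalLoc (coR c hc) s :=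
  K199.galLoc Ds (coR cs (linR_loc c hc cs compat)) (compat_R c hc cs _ compat) B
    (fun b => coR_inv cs _ (hρ b)) (pts_R cs _ H)

/-- **`GalLoc` over `R` from `D_s ⊗[B] D_s → D_s ⊗[k] O` bijective** -/
def galLocCan (c : K83.CoAlg k O D) (hc : LinR R c) {s : D}
    (Ds : Type u) [CommRing Ds] [Algebra k Ds] [Algebra R Ds] [Algebra D Ds]
    [IsScalarTower k R Ds] [IsScalarTower k D Ds] [IsScalarTower R D Ds] [IsLocalization.Away s Ds]
    (cs : K83.CoAlg k O Ds)
    (compat : ∀ x : D, cs.ρ (algebraMap D Ds x) =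
      Algebra.TensorProduct.map (IsScalarTower.toAlgHom k D Ds) (AlgHom.id k O) (c.ρ x))
    (B : Type u) [CommRing B] [Algebra R B] [Algebra B Ds] [IsScalarTower R B Ds] [Module.FaithfullyFlat B Ds]
    (hρ : ∀ b : B, cs.ρ (algebraMap B Ds b) = algebraMap B Ds b ⊗ₜ[k] (1 : O))
    (can : Ds ⊗[B] Ds → Ds ⊗[k] O) (can_add : ∀ x y, can (x + y) = can x + can y)
    (can_tmul : ∀ a b : Ds, can (a ⊗ₜ[B] b) = (a ⊗ₜ[k] (1 : O)) * cs.ρ b) (can_bij : Function.Bijective can) :
    K83.GalLoc (coR c hc) s where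
  Ds := Ds
  cs := coR cs (linR_loc c hc cs compat)
  compat := compat_R c hc cs _ compat
  B := B
  can := ((canB (coR cs (linR_loc c hc cs compat)).ρ (fun b => coR_inv cs _ (hρ b))).restrictScalars R).toLinearMap
  can_tmul a b := canB_tmul _ _ a b
  can_bij := by
    have can_zero : can 0 = 0 := by
      have := can_add 0 0
      rw [add_zero] at this
      exact left_eq_add.1 this
    have h : ∀ z : Ds ⊗[B] Ds, ((canB (coR cs (linR_loc c hc cs compat)).ρ
        (fun b => coR_inv cs _ (hρ b))).restrictScalars R).toLinearMap z =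
        (Algebra.TensorProduct.cancelBaseChange k R R Ds O).symm (can z) := by
      intro z
      induction z using TensorProduct.induction_on with
      | zero => rw [can_zero, map_zero, map_zero]
      | add x y hx hy => rw [can_add, map_add, map_add, hx, hy]
      | tmul a b =>
        rw [can_tmul, map_mul, ← up_eq_cancel_symm (R := R) (cs.ρ b), ← coR_ρ cs (linR_loc c hc cs compat)]
        refine (canB_tmul _ _ a b).trans ?_
        congr 1
    have h2 : ⇑((canB (coR cs (linR_loc c hc cs compat)).ρ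
        (fun b => coR_inv cs _ (hρ b))).restrictScalars R).toLinearMap =
        (Algebra.TensorProduct.cancelBaseChange k R R Ds O).symm ∘ can := funext h
    rw [h2]
    exact (AlgEquiv.bijective _).comp can_bij

/-! ### The FIN datum in `k`-form -/

variable (R) in
/-- `K83.GalLoc` in `k`-form: the coaction and the points are over `k`, `B` is an `R`-algebra -/
structure LocK (c : K83.CoAlg k O D) (s : D) : Type (u + 1) where
  Ds : Type u
  [crD : CommRing Ds]
  [ak : Algebra k Ds]
  [aR : Algebra R Ds]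
  [aD : Algebra D Ds]
  [tkR : IsScalarTower k R Ds]
  [tkD : IsScalarTower k D Ds]
  [tw : IsScalarTower R D Ds]
  [loc : IsLocalization.Away s Ds]
  cs : K83.CoAlg k O Ds
  compat : ∀ x : D, cs.ρ (algebraMap D Ds x) =
    Algebra.TensorProduct.map (IsScalarTower.toAlgHom k D Ds) (AlgHom.id k O) (c.ρ x)
  B : Type u
  [crB : CommRing B]
  [aRB : Algebra R B]
  [aBD : Algebra B Ds]
  [twB : IsScalarTower R B Ds]
  [ff : Module.FaithfullyFlat B Ds]
  fix : ∀ b : B, cs.ρ (algebraMap B Ds b) = algebraMap B Ds b ⊗ₜ[k] (1 : O)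
  pts : ∀ (T : Type u) [CommRing T] [Algebra k T] (f f' : Ds →ₐ[k] T),
    (∀ b : B, f (algebraMap B Ds b) = f' (algebraMap B Ds b)) →
    ∃! h : O →ₐ[k] T, ∀ d, f' d = pair f h (cs.ρ d)

attribute [instance] LocK.crD LocK.ak LocK.aR LocK.aD LocK.tkR LocK.tkD LocK.tw LocK.loc LocK.crB LocK.aRB
  LocK.aBD LocK.twB LocK.ff

/-- `LocK` over `k` gives `GalLoc` over `R` -/
def LocK.toR {c : K83.CoAlg k O D} (hc : LinR R c) {s : D} (L : LocK R c s) : K83.GalLoc (coR c hc) s :=
  galLocR c hc L.Ds L.cs L.compat L.B L.fix L.pts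

variable (R) in
/-- the canonical `k`-algebra structure etc. on `D_s`; the coaction exists (`coLoc`): `LocK` from the ring `Ds` alone -/
def LocK.mk' (c : K83.CoAlg k O D) {s : D} {χ : O} (hχ : IsGroupLikeElem k χ) (hs : c.ρ s = s ⊗ₜ[k] χ)
    (Ds : Type u) [CommRing Ds] [Algebra k Ds] [Algebra R Ds] [Algebra D Ds]
    [IsScalarTower k R Ds] [IsScalarTower k D Ds] [IsScalarTower R D Ds] [IsLocalization.Away s Ds]
    (B : Type u) [CommRing B] [Algebra R B] [Algebra B Ds] [IsScalarTower R B Ds] [Module.FaithfullyFlat B Ds]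
    (hρ : ∀ b : B, (coLoc c Ds hχ hs).ρ (algebraMap B Ds b) = algebraMap B Ds b ⊗ₜ[k] (1 : O))
    (H : ∀ (T : Type u) [CommRing T] [Algebra k T] (f f' : Ds →ₐ[k] T),
      (∀ b : B, f (algebraMap B Ds b) = f' (algebraMap B Ds b)) →
      ∃! h : O →ₐ[k] T, ∀ d, f' d = pair f h ((coLoc c Ds hχ hs).ρ d)) : LocK R c s where
  Ds := Ds
  cs := coLoc c Ds hχ hs
  compat := coLoc_compat c Ds hχ hs
  B := B
  fix := hρ
  pts := H

variable (R) in
/-- the FIN datum in `k`-form -/
structure FinK (c : K83.CoAlg k O D) : Type (u + 1) where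
  r : ℕ
  χ : O
  hχ : IsGroupLikeElem k χ
  s : Fin (r + 1) → D
  hs : ∀ i, c.ρ (s i) = s i ⊗ₜ[k] χ
  span : Ideal.span (Set.range s) = ⊤
  noeth : IsNoetherianRing D
  loc : ∀ i, LocK R c (s i)
  gen : ∀ i (b : (loc i).B), b ∈ Algebra.adjoin R {y : (loc i).B | ∃ j,
    algebraMap (loc i).B (loc i).Ds y * algebraMap D (loc i).Ds (s i) =
      algebraMap D (loc i).Ds (s j)}

/-- **FIN datum over `k` ⟹ FIN datum over `R`** -/
def FinK.toR {c : K83.CoAlg k O D} (hc : LinR R c) (F : FinK R c) : K83.FinDatum R (R ⊗[k] O) D (coR c hc) where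
  r := F.r
  χ := (1 : R) ⊗ₜ[k] F.χ
  hχ := isGroupLike_one_tmul F.hχ
  s := F.s
  hs i := coR_semi c hc (F.hs i)
  span := F.span
  noeth := F.noeth
  loc i := (F.loc i).toR hc
  gen := F.gen

end CoR

end Groth.Agent.ResProp.EF.K541
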