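import Groth.Agent.ResProp.EF.K805.Bridge
import Groth.Agent.ResProp.EF.K83.FinDatum
import Groth.Agent.HopfRep.K187.HochMap

/-!
# Consequences of the bridge `K805.Phi` between the cochains over `k` and over `R`

`k → R`, `O` a bialgebra over `k`, `N` an `R`-module with an `R`-linear coaction `N → N ⊗[k] O`.
-/

set_option autoImplicit false

universe u

open TensorProduct

noncomputable section

namespace Groth.Agent.ResProp.EF.K541

open Groth.Agent.ResProp.EF.K805

section Coh

variable {k : Type u} [CommRing k] {O : Type u} [CommRing O] [Bialgebra k O] {R : Type u} [CommRing R] [Algebra k R]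
variable {N : Type u} [AddCommGroup N] [Module k N] [Module R N] [IsScalarTower k R N]
variable (c : HopfRep.Comod k O N) (hc : RLin k O R c)

include hc in
theorem mem_cocycles_iff (n : ℕ) (z : (Hoch.cochain k O N n : Type u)) :
    (letI := toR c hc; Phi k O R N n z ∈ Hoch.cocycles R (R ⊗[k] O) N n) ↔
      (letI := c; z ∈ Hoch.cocycles k O N n) := by
  let := c
  let := toR c hc
  rw [Hoch.cocycles, Hoch.cocycles, LinearMap.mem_ker, LinearMap.mem_ker, ← Phi_d c hc,
    LinearEquiv.map_eq_zero_iff]

theorem mem_coboundaries_iff (n : ℕ) (z : (Hoch.cochain k O N n : Type u)) :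
    (letI := toR c hc; Phi k O R N n z ∈ Hoch.coboundaries R (R ⊗[k] O) N n) ↔
      (letI := c; z ∈ Hoch.coboundaries k O N n) := by
  let := c
  let := toR c hc
  cases n with
  | zero =>
    change Phi k O R N 0 z ∈ (⊥ : Submodule R _) ↔ z ∈ (⊥ : Submodule k _)
    rw [Submodule.mem_bot, Submodule.mem_bot, LinearEquiv.map_eq_zero_iff]
  | succ n =>
    change Phi k O R N (n + 1) z ∈ LinearMap.range (Hoch.d R (R ⊗[k] O) N n) ↔
      z ∈ LinearMap.range (Hoch.d k O N n)
    constructor
    · rintro ⟨y, hy⟩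
      obtain ⟨x, rfl⟩ := (Phi k O R N n).surjective y
      refine ⟨x, (Phi k O R N (n + 1)).injective ?_⟩
      rw [Phi_d c hc, hy]
    · rintro ⟨x, rfl⟩
      exact ⟨Phi k O R N n x, (Phi_d c hc n x).symm⟩

/-- cohomology over `R` -/
abbrev HR (n : ℕ) : Type u := @Hoch.H R _ (R ⊗[k] O) _ _ N _ _ (toR c hc) n

/-- cohomology over `k` -/
abbrev Hk (n : ℕ) : Type u := @Hoch.H k _ O _ _ N _ _ c n

/-- cocycles -/
def cocMap (n : ℕ) : (@Hoch.cocycles k _ O _ _ N _ _ c n) →ₛₗ[algebraMap k R]
    (@Hoch.cocycles R _ (R ⊗[k] O) _ _ N _ _ (toR c hc) n) where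
  toFun z := ⟨Phi k O R N n z, (mem_cocycles_iff c hc n z).2 z.2⟩
  map_add' x y := Subtype.ext (map_add (Phi k O R N n) x.1 y.1)
  map_smul' a x := Subtype.ext (by
    let := (rc k O R N n).mod
    have := (rc k O R N n).tower
    change Phi k O R N n (a • x.1) = algebraMap k R a • Phi k O R N n x.1
    rw [← map_smul, algebraMap_smul])

theorem cocMap_coe (n : ℕ) (z : @Hoch.cocycles k _ O _ _ N _ _ c n) :
    (cocMap c hc n z : (Hoch.cochain R (R ⊗[k] O) N n : Type u)) = Phi k O R N n z := rfl

theorem cocMap_surjective (n : ℕ) : Function.Surjective (cocMap c hc n) := by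
  rintro ⟨y, hy⟩
  obtain ⟨x, rfl⟩ := (Phi k O R N n).surjective y
  exact ⟨⟨x, (mem_cocycles_iff c hc n x).1 hy⟩, rfl⟩

/-- the comparison map on cohomology -/
def Hmap (n : ℕ) : Hk c n →ₛₗ[algebraMap k R] HR c hc n :=
  Submodule.liftQ _ ((Submodule.mkQ _ : _ →ₗ[R] HR c hc n).comp (cocMap c hc n)) (by
    intro z hz
    rw [Submodule.mem_comap] at hz
    rw [LinearMap.mem_ker, LinearMap.comp_apply, Submodule.mkQ_apply, Submodule.Quotient.mk_eq_zero,
      Submodule.mem_comap]
    exact (mem_coboundaries_iff c hc n z.1).2 hz)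

theorem Hmap_mk (n : ℕ) (z : @Hoch.cocycles k _ O _ _ N _ _ c n) :
    Hmap c hc n (Submodule.Quotient.mk z) = Submodule.Quotient.mk (cocMap c hc n z) := rfl

theorem Hmap_bijective (n : ℕ) : Function.Bijective (Hmap c hc n) := by
  constructor
  · rw [injective_iff_map_eq_zero]
    intro x hx
    obtain ⟨z, rfl⟩ := Submodule.Quotient.mk_surjective _ x
    rw [Hmap_mk, Submodule.Quotient.mk_eq_zero, Submodule.mem_comap] at hx
    rw [Submodule.Quotient.mk_eq_zero, Submodule.mem_comap]
    exact (mem_coboundaries_iff c hc n z.1).1 hx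
  · intro y
    obtain ⟨w, rfl⟩ := Submodule.Quotient.mk_surjective _ y
    obtain ⟨z, rfl⟩ := cocMap_surjective c hc n w
    exact ⟨Submodule.Quotient.mk z, rfl⟩

theorem subsingleton_H_iff {k : Type u} [CommRing k] {O : Type u} [Ring O] [Bialgebra k O] {N : Type u}
    [AddCommGroup N] [Module k N] [HopfRep.Comod k O N] (n : ℕ) :
    Subsingleton (Hoch.H k O N n) ↔ Hoch.cocycles k O N n ≤ Hoch.coboundaries k O N n := by
  rw [Submodule.Quotient.subsingleton_iff, Submodule.comap_subtype_eq_top]

/-- vanishing over `R` and over `k` -/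
theorem subsingleton_HR_iff (n : ℕ) : Subsingleton (HR c hc n) ↔
    (@Hoch.cocycles k _ O _ _ N _ _ c n ≤ @Hoch.coboundaries k _ O _ _ N _ _ c n) := by
  let := c
  rw [← subsingleton_H_iff]
  exact (Equiv.ofBijective _ (Hmap_bijective c hc n)).subsingleton_congr.symm

/-- the `R`-module structure on the cohomology over `k` -/
@[reducible] def modHk (n : ℕ) : Module R (Hk c n) :=
  (AddEquiv.ofBijective (Hmap c hc n) (Hmap_bijective c hc n)).module R

/-- finiteness over `R`, in terms of cocycles over `k` -/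
theorem finite_HR_iff (n : ℕ) : Module.Finite R (HR c hc n) ↔
    ∃ (m : ℕ) (s : Fin m → @Hoch.cocycles k _ O _ _ N _ _ c n),
      ∀ z : @Hoch.cocycles k _ O _ _ N _ _ c n, ∃ r : Fin m → R,
        letI := (rc k O R N n).mod;
        (z : (Hoch.cochain k O N n : Type u)) - ∑ i, r i • (s i : (Hoch.cochain k O N n : Type u)) ∈
          @Hoch.coboundaries k _ O _ _ N _ _ c n := by
  have key : ∀ (m : ℕ) (s : Fin m → @Hoch.cocycles k _ O _ _ N _ _ c n)
      (z : @Hoch.cocycles k _ O _ _ N _ _ c n) (r : Fin m → R),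
      (letI := (rc k O R N n).mod;
        (z : (Hoch.cochain k O N n : Type u)) - ∑ i, r i • (s i : (Hoch.cochain k O N n : Type u)) ∈
          @Hoch.coboundaries k _ O _ _ N _ _ c n) ↔
      (Submodule.Quotient.mk (cocMap c hc n z) : HR c hc n) =
        ∑ i, r i • (Submodule.Quotient.mk (cocMap c hc n (s i)) : HR c hc n) := by
    intro m s z r
    let := (rc k O R N n).mod
    have h1 : (∑ i, r i • (Submodule.Quotient.mk (cocMap c hc n (s i)) : HR c hc n)) =
        Submodule.Quotient.mk (∑ i, r i • cocMap c hc n (s i)) := by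
      have := (map_sum ((@Hoch.coboundaries R _ (R ⊗[k] O) _ _ N _ _ (toR c hc) n).comap
        (@Hoch.cocycles R _ (R ⊗[k] O) _ _ N _ _ (toR c hc) n).subtype).mkQ
          (fun i => r i • cocMap c hc n (s i)) Finset.univ)
      simp only [map_smul] at this
      exact this.symm
    rw [h1, Submodule.Quotient.eq, Submodule.mem_comap, ← mem_coboundaries_iff c hc n]
    have h2 : Phi k O R N n ((z : (Hoch.cochain k O N n : Type u)) -
        ∑ i, r i • (s i : (Hoch.cochain k O N n : Type u))) =
        (@Hoch.cocycles R _ (R ⊗[k] O) _ _ N _ _ (toR c hc) n).subtype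
          (cocMap c hc n z - ∑ i, r i • cocMap c hc n (s i)) := by
      rw [map_sub, map_sum, map_sub, map_sum]
      simp only [map_smul]
      rfl
    rw [h2]
  constructor
  · intro h
    obtain ⟨m, g, hg⟩ := Module.Finite.exists_fin (R := R) (M := HR c hc n)
    choose y hy using fun i => (Submodule.Quotient.mk_surjective _ (g i))
    choose s hs using fun i => cocMap_surjective c hc n (y i)
    refine ⟨m, s, fun z => ?_⟩
    have h3 : (Submodule.Quotient.mk (cocMap c hc n z) : HR c hc n) ∈ Submodule.span R (Set.range g) := by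
      rw [hg]; trivial
    obtain ⟨r, hr⟩ := (Submodule.mem_span_range_iff_exists_fun R).1 h3
    refine ⟨r, (key m s z r).2 ?_⟩
    rw [← hr]
    refine Finset.sum_congr rfl fun i _ => ?_
    rw [hs, hy]
  · rintro ⟨m, s, h⟩
    classical
    refine ⟨⟨Finset.univ.image fun i => (Submodule.Quotient.mk (cocMap c hc n (s i)) : HR c hc n), ?_⟩⟩
    rw [eq_top_iff]
    rintro x -
    obtain ⟨w, rfl⟩ := Submodule.Quotient.mk_surjective _ x
    obtain ⟨z, rfl⟩ := cocMap_surjective c hc n w
    obtain ⟨r, hr⟩ := h z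
    rw [(key m s z r).1 hr]
    refine Submodule.sum_mem _ fun i _ => Submodule.smul_mem _ _ (Submodule.subset_span ?_)
    simp

/-- naturality of `Phi` -/
theorem Phi_map {N' : Type u} [AddCommGroup N'] [Module k N'] [Module R N'] [IsScalarTower k R N']
    (f : N →ₗ[R] N') (n : ℕ) (z : (Hoch.cochain k O N n : Type u)) :
    Phi k O R N' n (K187.HochMap.map k O (f.restrictScalars k) n z) =
      K187.HochMap.map R (R ⊗[k] O) f n (Phi k O R N n z) := by
  induction n with
  | zero => rfl
  | succ n ih =>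
    change Phi k O R N' (n + 1) ((K187.HochMap.map k O (f.restrictScalars k) n).rTensor O z) =
      (K187.HochMap.map R (R ⊗[k] O) f n).rTensor (R ⊗[k] O) (Phi k O R N (n + 1) z)
    induction z using TensorProduct.induction_on with
    | zero => simp only [map_zero]
    | add x y hx hy => simp only [map_add, hx, hy]
    | tmul x a => rw [LinearMap.rTensor_tmul, Phi_succ_tmul, Phi_succ_tmul, LinearMap.rTensor_tmul, ih]

/-- a morphism of comodules over `k` which is `R`-linear is one over `R` -/
theorem isComodHom_toR {N' : Type u} [AddCommGroup N'] [Module k N'] [Module R N'] [IsScalarTower k R N']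
    (c' : HopfRep.Comod k O N') (hc' : RLin k O R c') (f : N →ₗ[R] N')
    (hf : @Hoch.IsComodHom k _ O _ _ _ N _ _ c N' _ _ c' (f.restrictScalars k)) :
    @Hoch.IsComodHom R _ (R ⊗[k] O) _ _ _ N _ _ (toR c hc) N' _ _ (toR c' hc') f := by
  refine LinearMap.ext fun x => ?_
  have h1 : c'.coact (f x) = (f.restrictScalars k).rTensor O (c.coact x) := LinearMap.congr_fun hf x
  change up k O (LinearMap.id : N' →ₗ[R] N') (c'.coact (f x)) =
    f.rTensor (R ⊗[k] O) (up k O (LinearMap.id : N →ₗ[R] N) (c.coact x))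
  rw [h1]
  generalize c.coact x = z
  induction z using TensorProduct.induction_on with
  | zero => simp
  | add x y hx hy => simp only [map_add, hx, hy]
  | tmul x a => rw [LinearMap.rTensor_tmul, up_tmul, up_tmul, LinearMap.rTensor_tmul]; rfl

end Coh

section Alg

variable {k : Type u} [CommRing k] {O : Type u} [CommRing O] {R : Type u} [CommRing R] [Algebra k R]
variable {D : Type u} [CommRing D] [Algebra k D] [Algebra R D] [IsScalarTower k R D] [HopfAlgebra k O]

theorem up_one : up k O (LinearMap.id : D →ₗ[R] D) (1 : D ⊗[k] O) = 1 := by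
  rw [Algebra.TensorProduct.one_def, up_tmul]; rfl

theorem up_mul (z w : D ⊗[k] O) : up k O (LinearMap.id : D →ₗ[R] D) (z * w) =
    up k O (LinearMap.id : D →ₗ[R] D) z * up k O (LinearMap.id : D →ₗ[R] D) w := by
  induction z using TensorProduct.induction_on with
  | zero => simp
  | add x y hx hy => simp only [map_add, add_mul, hx, hy]
  | tmul x a =>
    induction w using TensorProduct.induction_on with
    | zero => simp
    | add x y hx hy => simp only [map_add, mul_add, hx, hy]
    | tmul y b =>
      rw [Algebra.TensorProduct.tmul_mul_tmul, up_tmul, up_tmul, up_tmul,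
        Algebra.TensorProduct.tmul_mul_tmul, Algebra.TensorProduct.tmul_mul_tmul, one_mul]
      rfl

/-- a comodule algebra over `k` with `R`-linear coaction, as a `K83.CoAlg` over `R` -/
def coAlgR (c : HopfRep.Comod k O D) (hc : RLin k O R c) (h1 : c.coact 1 = 1)
    (hm : ∀ x y : D, c.coact (x * y) = c.coact x * c.coact y) : K83.CoAlg R (R ⊗[k] O) D where
  ρ := AlgHom.ofLinearMap (coactR c hc) (by rw [coactR_apply, h1]; exact up_one)
    (fun x y => by rw [coactR_apply, hm]; exact up_mul _ _)
  coassoc x := LinearMap.congr_fun (toR c hc).coassoc x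
  counit x := LinearMap.congr_fun (toR c hc).counit_comp x

theorem coAlgR_ρ (c : HopfRep.Comod k O D) (hc : RLin k O R c) (h1 : c.coact 1 = 1)
    (hm : ∀ x y : D, c.coact (x * y) = c.coact x * c.coact y) (x : D) :
    (coAlgR c hc h1 hm).ρ x = up k O (LinearMap.id : D →ₗ[R] D) (c.coact x) := rfl

theorem coAlgR_comod (c : HopfRep.Comod k O D) (hc : RLin k O R c) (h1 : c.coact 1 = 1)
    (hm : ∀ x y : D, c.coact (x * y) = c.coact x * c.coact y) :
    (coAlgR c hc h1 hm).comod = toR c hc := rfl

section HopfMod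

variable {N : Type u} [AddCommGroup N] [Module k N] [Module R N] [Module D N] [IsScalarTower k R N]
  [IsScalarTower R D N] [IsScalarTower k D N]

/-- the action of `D ⊗ O` on `N ⊗ O` -/
abbrev actk : D ⊗[k] O →ₗ[k] N ⊗[k] O →ₗ[k] N ⊗[k] O :=
  TensorProduct.map₂ (Algebra.lsmul k k N).toLinearMap (LinearMap.mul k O)

theorem up_act (z : D ⊗[k] O) (w : N ⊗[k] O) : up k O (LinearMap.id : N →ₗ[R] N) (actk z w) =
    TensorProduct.map₂ (Algebra.lsmul R R N).toLinearMap (LinearMap.mul R (R ⊗[k] O))
      (up k O (LinearMap.id : D →ₗ[R] D) z) (up k O (LinearMap.id : N →ₗ[R] N) w) := by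
  induction z using TensorProduct.induction_on with
  | zero => simp
  | add x y hx hy => simp only [map_add, LinearMap.add_apply, hx, hy]
  | tmul x a =>
    induction w using TensorProduct.induction_on with
    | zero => simp
    | add x y hx hy => simp only [map_add, hx, hy]
    | tmul y b =>
      rw [actk, TensorProduct.map₂_apply_tmul, TensorProduct.map_tmul, up_tmul, up_tmul, up_tmul,
        TensorProduct.map₂_apply_tmul, TensorProduct.map_tmul,
        LinearMap.mul_apply', LinearMap.mul_apply', Algebra.TensorProduct.tmul_mul_tmul, one_mul]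
      rfl

/-- Hopf modules -/
theorem isHopfMod_toR (cD : HopfRep.Comod k O D) (hcD : RLin k O R cD) (h1 : cD.coact 1 = 1)
    (hm : ∀ x y : D, cD.coact (x * y) = cD.coact x * cD.coact y)
    (c : HopfRep.Comod k O N) (hc : RLin k O R c)
    (h : ∀ (d : D) (n : N), c.coact (d • n) = actk (cD.coact d) (c.coact n)) :
    K83.IsHopfMod (coAlgR cD hcD h1 hm) N (toR c hc) := by
  refine ⟨fun d n => ?_⟩
  change up k O (LinearMap.id : N →ₗ[R] N) (c.coact (d • n)) = _
  rw [h, up_act]
  rfl

/-- **FIN over `R` gives FIN for the cochains over `k`.** -/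
theorem finOut_k (cD : HopfRep.Comod k O D) (hcD : RLin k O R cD) (h1 : cD.coact 1 = 1)
    (hm : ∀ x y : D, cD.coact (x * y) = cD.coact x * cD.coact y) (r : ℕ)
    (hF : K83.FinOut R (R ⊗[k] O) D (coAlgR cD hcD h1 hm) r)
    (c : HopfRep.Comod k O N) (hc : RLin k O R c)
    (h : ∀ (d : D) (n : N), c.coact (d • n) = actk (cD.coact d) (c.coact n)) :
    (∀ j, r < j → (@Hoch.cocycles k _ O _ _ N _ _ c j ≤ @Hoch.coboundaries k _ O _ _ N _ _ c j)) ∧
    (Module.Finite D N → ∀ j, Module.Finite R (HR c hc j)) := by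
  have h2 := @hF N _ _ _ _ (toR c hc) (isHopfMod_toR cD hcD h1 hm c hc h)
  exact ⟨fun j hj => (subsingleton_HR_iff c hc j).1 (h2.1 j hj), fun hN j => h2.2 hN j⟩

end HopfMod

end Alg

end Groth.Agent.ResProp.EF.K541
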