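import Groth.Agent.ResProp.EF.K601.FinD
import Groth.Agent.ResProp.EF.K729.FrFF
import Groth.Agent.ResProp.EF.K541.GalK

/-!
# G1, M8: from the `G`-part to the `Stab × G`-part, in `k`-form (`K541.LocK`)
-/

set_option autoImplicit false
set_option linter.style.haveILetI false
set_option linter.unusedSectionVars false

universe u

open TensorProduct

noncomputable section

namespace Groth.Agent.ResProp.EF.K541

open Groth.Agent.ResProp.EF.K83 Groth.Agent.ResProp.EF.K601 Groth.Agent.ResProp.EF.K58 Groth.Agent.ResProp.EF.K199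

section Frame

variable {n : Type} [Fintype n] [DecidableEq n] {i0 : n} {B D : Type u} [CommRing B] [CommRing D]
  {φ : n → B} {g : Matrix n n D}

/-- anything which represents the frames is helper58's algebra -/
theorem exists_equiv_Fr [Algebra B D] (h : IsFrame i0 (algebraMap B D) φ g) :
    ∃ e : Fr i0 φ ≃ₐ[B] D, (mat i0 φ).map e = g := by
  let f : Fr i0 φ →+* D := Fr.lift (algebraMap B D) g h.unit h.col
  have hf1 : f.comp (algebraMap B (Fr i0 φ)) = algebraMap B D := Fr.lift_comp _ _ _ _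
  have hf2 : (mat i0 φ).map f = g := Fr.lift_mat _ _ _ _
  obtain ⟨f', h1, h2⟩ := h.lift (algebraMap B (Fr i0 φ)) (mat i0 φ) (isUnit_det_mat i0 φ) (mat_col i0 φ)
  have e1 : f'.comp f = RingHom.id _ := by
    refine Fr.hom_ext ?_ ?_
    · rw [RingHom.comp_assoc, hf1, h1, RingHom.id_comp]
    · have : (mat i0 φ).map (f'.comp f) = ((mat i0 φ).map f).map f' := by
        ext i j; rfl
      rw [this, hf2, h2]
      ext i j; rfl
  have e2 : f.comp f' = RingHom.id _ := by
    refine h.ext _ _ ?_ ?_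
    · rw [RingHom.comp_assoc, h1, hf1, RingHom.id_comp]
    · have : g.map (f.comp f') = (g.map f').map f := by
        ext i j; rfl
      rw [this, h2, hf2]
      ext i j; rfl
  let fa : Fr i0 φ →ₐ[B] D := { f with commutes' := fun b => RingHom.congr_fun hf1 b }
  have hb : Function.Bijective fa :=
    ⟨fun x y hxy => by
      have := congrArg f' (show f x = f y from hxy)
      have e := fun z => RingHom.congr_fun e1 z
      change f'.comp f x = f'.comp f y at this
      rwa [e, e] at this, fun y => ⟨f' y, RingHom.congr_fun e2 y⟩⟩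
  refine ⟨AlgEquiv.ofBijective fa hb, ?_⟩
  rw [← hf2]
  rfl

/-- frames of a unimodular column are faithfully flat -/
theorem faithfullyFlat_of_isFrame [Algebra B D] (h : IsFrame i0 (algebraMap B D) φ g)
    (hφ : Ideal.span (Set.range φ) = ⊤) : Module.FaithfullyFlat B D := by
  obtain ⟨e, -⟩ := exists_equiv_Fr h
  haveI := K729.Fr.faithfullyFlat i0 φ hφ
  exact Module.FaithfullyFlat.of_linearEquiv B (Fr i0 φ) e.symm.toLinearEquiv

end Frame

/-- `φ` generates the unit ideal of `D_s` as soon as `s` is in the radical of `(φ)` -/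
theorem span_map_eq_top {n : Type*} {D Ds : Type*} [CommRing D] [CommRing Ds] [Algebra D Ds] {s : D}
    [IsLocalization.Away s Ds] (φ : n → D) (h : s ∈ (Ideal.span (Set.range φ)).radical) :
    Ideal.span (Set.range fun i => algebraMap D Ds (φ i)) = ⊤ := by
  obtain ⟨N, hN⟩ := h
  have h1 : algebraMap D Ds (s ^ N) ∈ Ideal.map (algebraMap D Ds) (Ideal.span (Set.range φ)) :=
    Ideal.mem_map_of_mem _ hN
  rw [Ideal.map_span, ← Set.range_comp] at h1
  refine Ideal.eq_top_of_isUnit_mem _ h1 ?_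
  rw [map_pow]
  exact (IsLocalization.Away.algebraMap_isUnit s).pow N

section Main

variable {k R OG O D0 D : Type u} [CommRing k] [CommRing R] [Algebra k R] [CommRing OG] [HopfAlgebra k OG]
  [CommRing O] [HopfAlgebra k O] [CommRing D0] [Algebra k D0] [Algebra R D0] [IsScalarTower k R D0]
  [CommRing D] [Algebra k D] [Algebra R D] [Algebra D0 D] [IsScalarTower k R D] [IsScalarTower R D0 D]
  [IsScalarTower k D0 D] {n : Type} [Fintype n] [DecidableEq n] {i0 : n}
  {c0 : CoAlg k OG D0} {φ : n → D0} {Rm : Matrix n n OG} {iG : OG →ₐ[k] O} {h' : Matrix n n O}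
  {g : Matrix n n D} {cD : CoAlg k O D}

section

variable {s : D0} (L : LocK R c0 s) (Ds : Type u) [CommRing Ds] [Algebra k Ds] [Algebra R Ds] [Algebra D Ds]
  [IsScalarTower k R Ds] [IsScalarTower k D Ds] [IsScalarTower R D Ds] [IsLocalization.Away (algebraMap D0 D s) Ds]

variable (D) in
/-- `D0_s → D_s` -/
def ιs : L.Ds →+* Ds :=
  IsLocalization.Away.lift (S := L.Ds) s (g := (algebraMap D Ds).comp (algebraMap D0 D))
    (IsLocalization.Away.algebraMap_isUnit (algebraMap D0 D s))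

theorem ιs_algebraMap (x : D0) : ιs D L Ds (algebraMap D0 L.Ds x) = algebraMap D Ds (algebraMap D0 D x) :=
  IsLocalization.Away.lift_eq s _ x

theorem ιs_k (a : k) : ιs D L Ds (algebraMap k L.Ds a) = algebraMap k Ds a := by
  rw [IsScalarTower.algebraMap_apply k D0 L.Ds, ιs_algebraMap, ← IsScalarTower.algebraMap_apply k D0 D,
    ← IsScalarTower.algebraMap_apply k D Ds]

theorem ιs_R (a : R) : ιs D L Ds (algebraMap R L.Ds a) = algebraMap R Ds a := by
  rw [IsScalarTower.algebraMap_apply R D0 L.Ds, ιs_algebraMap, ← IsScalarTower.algebraMap_apply R D0 D,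
    ← IsScalarTower.algebraMap_apply R D Ds]

/-- **the `Stab × G`-part**: `LocK` for the frames, with the same `B` -/
def LocK.frame' (F : FrData (i0 := i0) c0 φ Rm iG h' g cD) {χ : OG} (hχ : IsUnit χ)
    (hs : c0.ρ s = s ⊗ₜ[k] χ) (hφ : s ∈ (Ideal.span (Set.range φ)).radical) : LocK R cD (algebraMap D0 D s) :=
  letI a1 : Algebra L.Ds Ds := (ιs D L Ds).toAlgebra
  haveI t1 : IsScalarTower k L.Ds Ds := IsScalarTower.of_algebraMap_eq fun a => (ιs_k L Ds a).symm
  letI a2 : Algebra L.B Ds := ((ιs D L Ds).comp (algebraMap L.B L.Ds)).toAlgebra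
  haveI t2 : IsScalarTower L.B L.Ds Ds := IsScalarTower.of_algebraMap_eq' rfl
  letI a3 : Algebra k L.B := ((algebraMap R L.B).comp (algebraMap k R)).toAlgebra
  haveI t3 : IsScalarTower k L.B L.Ds := IsScalarTower.of_algebraMap_eq fun a => by
    change algebraMap k L.Ds a = algebraMap L.B L.Ds (algebraMap R L.B (algebraMap k R a))
    rw [← IsScalarTower.algebraMap_apply R L.B L.Ds, ← IsScalarTower.algebraMap_apply k R L.Ds]
  haveI t4 : IsScalarTower R L.B Ds :=
    IsScalarTower.of_algebraMap_eq fun a => by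
      change _ = ιs D L Ds (algebraMap L.B L.Ds (algebraMap R L.B a))
      rw [← IsScalarTower.algebraMap_apply R L.B L.Ds, ιs_R]
  haveI t5 : IsScalarTower k L.B Ds :=
    IsScalarTower.of_algebraMap_eq fun a => by
      change _ = ιs D L Ds (algebraMap L.B L.Ds (algebraMap k L.B a))
      rw [← IsScalarTower.algebraMap_apply k L.B L.Ds, ιs_k]
  haveI f1 : Module.FaithfullyFlat L.Ds Ds :=
    faithfullyFlat_of_isFrame (i0 := i0) (φ := fun i => algebraMap D0 L.Ds (φ i)) (g := g.map (algebraMap D Ds))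
      (F.hD.loc s (ιs D L Ds) (RingHom.ext fun x => ιs_algebraMap L Ds x)) (span_map_eq_top (s := s) φ hφ)
  haveI f2 : Module.FaithfullyFlat L.B Ds := Module.FaithfullyFlat.trans L.B L.Ds Ds
  let G0 : K83.GalLoc c0 s := K199.galLoc L.Ds L.cs L.compat L.B L.fix L.pts
  letI b1 : Algebra G0.Ds Ds := a1
  letI b2 : Algebra G0.B Ds := a2
  haveI u1 : IsScalarTower k G0.Ds Ds := t1
  haveI u2 : IsScalarTower G0.B G0.Ds Ds := t2
  haveI u5 : IsScalarTower k G0.B Ds := t5
  haveI g2 : Module.FaithfullyFlat G0.B Ds := f2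
  let G1 : K83.GalLoc cD (algebraMap D0 D s) := F.galLoc hχ hs G0 Ds (fun x => ιs_algebraMap L Ds x)
  let cs1 : K83.CoAlg k O Ds := G1.cs
  have h1 : ∀ x : D, cs1.ρ (algebraMap D Ds x) =
    Algebra.TensorProduct.map (IsScalarTower.toAlgHom k D Ds) (AlgHom.id k O) (cD.ρ x) := G1.compat
  have h2 : ∀ b : L.B, cs1.ρ (algebraMap L.B Ds b) = algebraMap L.B Ds b ⊗ₜ[k] (1 : O) := galLoc_coinv G1
  have h3 : ∀ (T : Type u) [CommRing T] [Algebra k T] (f f' : Ds →ₐ[k] T),
    (∀ b : L.B, f (algebraMap L.B Ds b) = f' (algebraMap L.B Ds b)) →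
    ∃! h : O →ₐ[k] T, ∀ d, f' d = pair f h (cs1.ρ d) := galLoc_points G1
  { Ds := Ds
    cs := cs1
    compat := h1
    B := L.B
    fix := h2
    pts := h3 }

end

section

variable {s : D0}

/-- **the `Stab × G`-part**: `LocK` for the frames, with the same `B` -/
def LocK.frame (L : LocK R c0 s) (F : FrData (i0 := i0) c0 φ Rm iG h' g cD) {χ : OG} (hχ : IsUnit χ)
    (hs : c0.ρ s = s ⊗ₜ[k] χ) (hφ : s ∈ (Ideal.span (Set.range φ)).radical) : LocK R cD (algebraMap D0 D s) :=
  L.frame' (Localization.Away (algebraMap D0 D s)) F hχ hs hφ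

theorem LocK.frame_gen (L : LocK R c0 s) (F : FrData (i0 := i0) c0 φ Rm iG h' g cD) {χ : OG} (hχ : IsUnit χ)
    (hs : c0.ρ s = s ⊗ₜ[k] χ) (hφ : s ∈ (Ideal.span (Set.range φ)).radical) {J : Type*} (t : J → D0)
    (gen : ∀ b : L.B, b ∈ Algebra.adjoin R {y : L.B | ∃ j,
      algebraMap L.B L.Ds y * algebraMap D0 L.Ds s = algebraMap D0 L.Ds (t j)})
    (b : (L.frame F hχ hs hφ).B) : b ∈ Algebra.adjoin R {y : (L.frame F hχ hs hφ).B | ∃ j,
      algebraMap (L.frame F hχ hs hφ).B (L.frame F hχ hs hφ).Ds y *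
        algebraMap D (L.frame F hχ hs hφ).Ds (algebraMap D0 D s) =
      algebraMap D (L.frame F hχ hs hφ).Ds (algebraMap D0 D (t j))} := by
  refine Algebra.adjoin_mono ?_ (gen b)
  rintro y ⟨j, hj⟩
  refine ⟨j, ?_⟩
  have := congrArg (ιs D L (Localization.Away (algebraMap D0 D s))) hj
  rw [map_mul, ιs_algebraMap, ιs_algebraMap] at this
  exact this

end

/-- the FIN datum in `k`-form, with an arbitrary finite nonempty index set -/
def FinK.ofFintype {c : CoAlg k O D} {J : Type*} [Fintype J] [Nonempty J] (s : J → D) {χ : O} (hχ : IsGroupLikeElem k χ)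
    (hs : ∀ z, c.ρ (s z) = s z ⊗ₜ[k] χ) (span : Ideal.span (Set.range s) = ⊤) (noeth : IsNoetherianRing D)
    (L : ∀ z, LocK R c (s z))
    (gen : ∀ z (b : (L z).B), b ∈ Algebra.adjoin R {y : (L z).B | ∃ j,
      algebraMap (L z).B (L z).Ds y * algebraMap D (L z).Ds (s z) = algebraMap D (L z).Ds (s j)}) : FinK R c :=
  have hc : Fintype.card J = (Fintype.card J - 1) + 1 := (Nat.sub_add_cancel Fintype.card_pos).symm
  let e : Fin ((Fintype.card J - 1) + 1) ≃ J := (Fintype.equivFinOfCardEq hc).symm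
  { r := Fintype.card J - 1
    χ := χ
    hχ := hχ
    s := fun i => s (e i)
    hs := fun i => hs (e i)
    span := by
      rw [← span]
      congr 1
      exact e.surjective.range_comp s
    noeth := noeth
    loc := fun i => L (e i)
    gen := fun i b => by
      refine Algebra.adjoin_mono ?_ (gen (e i) b)
      rintro y ⟨j, hj⟩
      obtain ⟨j, rfl⟩ := e.surjective j
      exact ⟨j, hj⟩ }

/-- **M8**: the FIN datum of `D` = frames over `D0`, in `k`-form -/
def finK (F : FrData (i0 := i0) c0 φ Rm iG h' g cD) {J : Type*} [Fintype J] [Nonempty J] (s : J → D0) {χ : OG}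
    (hχ : IsGroupLikeElem k χ) (hχO : IsGroupLikeElem k (iG χ)) (hs : ∀ z, c0.ρ (s z) = s z ⊗ₜ[k] χ)
    (L : ∀ z, LocK R c0 (s z))
    (gen : ∀ z (b : (L z).B), b ∈ Algebra.adjoin R {y : (L z).B | ∃ j,
      algebraMap (L z).B (L z).Ds y * algebraMap D0 (L z).Ds (s z) = algebraMap D0 (L z).Ds (s j)})
    (hφ : ∀ z, s z ∈ (Ideal.span (Set.range φ)).radical)
    (span : Ideal.span (Set.range fun z => algebraMap D0 D (s z)) = ⊤) (noeth : IsNoetherianRing D) : FinK R cD :=
  FinK.ofFintype (fun z => algebraMap D0 D (s z)) hχO (fun z => F.hs (hs z)) span noeth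
    (fun z => (L z).frame F hχ.isUnit (hs z) (hφ z))
    (fun z b => (L z).frame_gen F hχ.isUnit (hs z) (hφ z) s (gen z) b)

/-- **M8**: `K83.FinDatum` of `D` over `R` -/
def finD (F : FrData (i0 := i0) c0 φ Rm iG h' g cD) {J : Type*} [Fintype J] [Nonempty J] (s : J → D0) {χ : OG}
    (hχ : IsGroupLikeElem k χ) (hχO : IsGroupLikeElem k (iG χ)) (hs : ∀ z, c0.ρ (s z) = s z ⊗ₜ[k] χ)
    (L : ∀ z, LocK R c0 (s z))
    (gen : ∀ z (b : (L z).B), b ∈ Algebra.adjoin R {y : (L z).B | ∃ j,
      algebraMap (L z).B (L z).Ds y * algebraMap D0 (L z).Ds (s z) = algebraMap D0 (L z).Ds (s j)})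
    (hφ : ∀ z, s z ∈ (Ideal.span (Set.range φ)).radical)
    (span : Ideal.span (Set.range fun z => algebraMap D0 D (s z)) = ⊤) (noeth : IsNoetherianRing D)
    (hD : LinR R cD) : K83.FinDatum R (R ⊗[k] O) D (coR cD hD) :=
  (finK F s hχ hχO hs L gen hφ span noeth).toR hD

end Main

end Groth.Agent.ResProp.EF.K541
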