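import Groth.Agent.ResProp.EF.K199.GPart
import Groth.Agent.ResProp.EF.K541.GalK
import Groth.Agent.ResProp.EF.K819.N4s

/-!
# G1, M8, G-part (second seat): `LocK` for `F.R` at `s_IJ`, group `GL_r1 × GL_rm`
-/

set_option autoImplicit false
set_option linter.style.haveILetI false
set_option linter.unusedSectionVars false

universe u

open Groth.Agent.Grpsch.AffGrpd Groth.Agent.ResProp.EF.K412 Groth.Agent.ResProp.EF.K62 TensorProduct
open Groth.Agent.ResProp.EF.K199 Groth.Agent.ResProp.EF.K199.GPart Groth.Agent.ResProp.EF.K83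

noncomputable section

namespace Groth.Agent.ResProp.EF.K541

/-- inverses commute with ring maps -/
theorem map_inv_of_isUnit {n : Type} [Fintype n] [DecidableEq n] {S T : Type u} [CommRing S] [CommRing T] (f : S →+* T)
    (N : Matrix n n S) (h : IsUnit N.det) : (N.map f)⁻¹ = N⁻¹.map f := by
  refine Matrix.inv_eq_right_inv ?_
  rw [← Matrix.map_mul, Matrix.mul_nonsing_inv _ h]
  exact Matrix.map_one f (map_zero f) (map_one f)

section

variable {A B : Type u} [CommRing A] [CommRing B] {Lb : Type u} [CommRing Lb] [Algebra Lb A] {G : RGrpd A B}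
  {D : Gen Lb G} {k : Type u} [Field k] {x : A →+* k} (F : FrRing D x)
  (I : Fin F.r1 → Fin D.n) (J : Fin F.rm → (Fin D.m → Fin D.n))
  {O : Type u} [CommRing O] [HopfAlgebra Lb O] {X : Matrix (Fin F.r1) (Fin F.r1) O}
  {Xm : Matrix (Fin F.rm) (Fin F.rm) O} (hX : IsMulMat Lb X) (hXm : IsMulMat Lb Xm) (hU : IsUnivGL Lb X Xm)
  (Ds : Type u) [CommRing Ds] [Algebra F.R Ds] [Algebra A Ds] [Algebra Lb Ds] [IsScalarTower A F.R Ds]
  [IsScalarTower Lb F.R Ds] [IsScalarTower Lb A Ds] [IsLocalization.Away (sIJ F I J) Ds]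

/-- the coaction on `F.R[1/s_IJ]` -/
def gcs : CoAlg Lb O Ds :=
  coLoc (coAlg F hX hXm) (s := sIJ F I J) (χ := chi F X Xm) Ds (isGroupLike_chi F hX hXm) (rho_sIJ F hX hXm I J)

theorem gcs_compat (r : F.R) : (gcs F I J hX hXm Ds).ρ (algebraMap F.R Ds r) =
    Algebra.TensorProduct.map (IsScalarTower.toAlgHom Lb F.R Ds) (AlgHom.id Lb O) (rho F hX hXm r) :=
  coLoc_compat (coAlg F hX hXm) Ds (isGroupLike_chi F hX hXm) (rho_sIJ F hX hXm I J) r

theorem gcs_s (I' : Fin F.r1 → Fin D.n) (J' : Fin F.rm → (Fin D.m → Fin D.n)) :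
    (gcs F I J hX hXm Ds).ρ (algebraMap F.R Ds (sIJ F I' J')) =
      algebraMap F.R Ds (sIJ F I' J') ⊗ₜ[Lb] chi F X Xm := by
  rw [gcs_compat, rho_sIJ, Algebra.TensorProduct.map_tmul]
  rfl

theorem gcs_a (a : A) : (gcs F I J hX hXm Ds).ρ (algebraMap A Ds a) = algebraMap A Ds a ⊗ₜ[Lb] (1 : O) := by
  rw [IsScalarTower.algebraMap_apply A F.R Ds, gcs_compat]
  have : rho F hX hXm (algebraMap A F.R a) = algebraMap A F.R a ⊗ₜ[Lb] (1 : O) := rho_a F hX hXm a
  rw [this, Algebra.TensorProduct.map_tmul]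
  rfl

/-- the coaction as a map of `A`-algebras -/
def gcsA : Ds →ₐ[A] Ds ⊗[Lb] O :=
  { ((gcs F I J hX hXm Ds).ρ : Ds →+* Ds ⊗[Lb] O) with commutes' := fun a => gcs_a F I J hX hXm Ds a }

/-- **`ρ` fixes `BIJ`** -/
theorem gfix (b : BIJ F I J Ds) : (gcs F I J hX hXm Ds).ρ (b : Ds) = (b : Ds) ⊗ₜ[Lb] (1 : O) := by
  have hle : BIJ F I J Ds ≤ AlgHom.equalizer (gcsA F I J hX hXm Ds)
      (Algebra.TensorProduct.includeLeft : Ds →ₐ[A] Ds ⊗[Lb] O) := by
    refine Algebra.adjoin_le ?_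
    rintro y ⟨I', J', h⟩
    change (gcs F I J hX hXm Ds).ρ y = y ⊗ₜ[Lb] (1 : O)
    have hu : IsUnit ((gcs F I J hX hXm Ds).ρ (algebraMap F.R Ds (sIJ F I J))) :=
      (IsLocalization.Away.algebraMap_isUnit (sIJ F I J)).map _
    refine hu.mul_right_cancel ?_
    rw [← map_mul, h, gcs_s, gcs_s, Algebra.TensorProduct.tmul_mul_tmul, h, one_mul]
  exact hle b.2

section Pts

variable {T : Type u} [CommRing T] [Algebra Lb T]

/-- `F.R ⊗ O → T` -/
abbrev gg (f : Ds →ₐ[Lb] T) (h : O →ₐ[Lb] T) : F.R ⊗[Lb] O →+* T :=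
  ((pair f h).comp (Algebra.TensorProduct.map (IsScalarTower.toAlgHom Lb F.R Ds) (AlgHom.id Lb O)) :
    F.R ⊗[Lb] O →ₐ[Lb] T)

theorem gg_inl (f : Ds →ₐ[Lb] T) (h : O →ₐ[Lb] T) :
    (gg F Ds f h).comp (inl Lb F.R O) = (f : Ds →+* T).comp (algebraMap F.R Ds) := by
  ext r
  change pair f h (Algebra.TensorProduct.map (IsScalarTower.toAlgHom Lb F.R Ds) (AlgHom.id Lb O) (r ⊗ₜ[Lb] 1)) = _
  rw [Algebra.TensorProduct.map_tmul, pair, Algebra.TensorProduct.lift_tmul, map_one, map_one, mul_one]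
  rfl

theorem gg_inr (f : Ds →ₐ[Lb] T) (h : O →ₐ[Lb] T) : (gg F Ds f h).comp (inr Lb F.R O) = (h : O →+* T) := by
  ext r
  change pair f h (Algebra.TensorProduct.map (IsScalarTower.toAlgHom Lb F.R Ds) (AlgHom.id Lb O) (1 ⊗ₜ[Lb] r)) = _
  rw [Algebra.TensorProduct.map_tmul, pair, Algebra.TensorProduct.lift_tmul, map_one, map_one, one_mul]
  rfl

theorem gg_rho (f : Ds →ₐ[Lb] T) (h : O →ₐ[Lb] T) (r : F.R) :
    pair f h ((gcs F I J hX hXm Ds).ρ (algebraMap F.R Ds r)) = gg F Ds f h (rho F hX hXm r) := by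
  rw [gcs_compat]
  rfl

/-- `f · h` on points -/
theorem gg_trans (f : Ds →ₐ[Lb] T) (h : O →ₐ[Lb] T) :
    IsGTrans (X.map h).transpose (Xm.map h).transpose (F.P.map ((f : Ds →+* T).comp (algebraMap F.R Ds)))
      (F.P.map ((gg F Ds f h).comp (rho F hX hXm : F.R →+* F.R ⊗[Lb] O))) := by
  have := isGTrans_points F hX hXm (gg F Ds f h)
  rw [gg_inl, gg_inr] at this
  exact this

end Pts

include hU in
/-- **the point condition** -/
theorem gpts (T : Type u) [CommRing T] [Algebra Lb T] (f f' : Ds →ₐ[Lb] T)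
    (hff : ∀ b : BIJ F I J Ds, f (b : Ds) = f' (b : Ds)) :
    ∃! h : O →ₐ[Lb] T, ∀ d, f' d = pair f h ((gcs F I J hX hXm Ds).ρ d) := by
  let φ : F.R →+* T := (f : Ds →+* T).comp (algebraMap F.R Ds)
  let φ' : F.R →+* T := (f' : Ds →+* T).comp (algebraMap F.R Ds)
  let Ps := F.P.map (algebraMap F.R Ds)
  have us : IsUnit (algebraMap F.R Ds (sIJ F I J)) := isUnit_s F I J Ds
  have u : IsUnit (φ (sIJ F I J)) := us.map f
  have u' : IsUnit (φ' (sIJ F I J)) := us.map f'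
  have ha : (F.P.map φ').a = (F.P.map φ).a := by
    refine RingHom.ext fun a => ?_
    have := hff ⟨algebraMap A Ds a, (BIJ F I J Ds).algebraMap_mem a⟩
    have e : algebraMap A Ds a = algebraMap F.R Ds (F.P.a a) := IsScalarTower.algebraMap_apply A F.R Ds a
    change f (algebraMap A Ds a) = f' (algebraMap A Ds a) at this
    rw [e] at this
    exact this.symm
  have hMg : ∀ g : Ds →ₐ[Lb] T, ((F.P.map ((g : Ds →+* T).comp (algebraMap F.R Ds))).M.submatrix id I)⁻¹ *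
      (F.P.map ((g : Ds →+* T).comp (algebraMap F.R Ds))).M = ((Ps.M.submatrix id I)⁻¹ * Ps.M).map (g : Ds →+* T) := by
    intro g
    have e1 : (F.P.map ((g : Ds →+* T).comp (algebraMap F.R Ds))).M.submatrix id I =
        (Ps.M.submatrix id I).map (g : Ds →+* T) := rfl
    have e2 : (F.P.map ((g : Ds →+* T).comp (algebraMap F.R Ds))).M = Ps.M.map (g : Ds →+* T) := rfl
    rw [e1, e2, map_inv_of_isUnit _ _ (unitM F I J us), Matrix.map_mul]
  have hMmg : ∀ g : Ds →ₐ[Lb] T, ((F.P.map ((g : Ds →+* T).comp (algebraMap F.R Ds))).Mm.submatrix id J)⁻¹ *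
      (F.P.map ((g : Ds →+* T).comp (algebraMap F.R Ds))).Mm =
      ((Ps.Mm.submatrix id J)⁻¹ * Ps.Mm).map (g : Ds →+* T) := by
    intro g
    have e1 : (F.P.map ((g : Ds →+* T).comp (algebraMap F.R Ds))).Mm.submatrix id J =
        (Ps.Mm.submatrix id J).map (g : Ds →+* T) := rfl
    have e2 : (F.P.map ((g : Ds →+* T).comp (algebraMap F.R Ds))).Mm = Ps.Mm.map (g : Ds →+* T) := rfl
    rw [e1, e2, map_inv_of_isUnit _ _ (unitMm F I J us), Matrix.map_mul]
  have hM : ((F.P.map φ').M.submatrix id I)⁻¹ * (F.P.map φ').M =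
      ((F.P.map φ).M.submatrix id I)⁻¹ * (F.P.map φ).M := by
    rw [hMg f', hMg f]
    ext i j
    exact (hff ⟨_, entryM_mem F I J Ds i j⟩).symm
  have hMm : ((F.P.map φ').Mm.submatrix id J)⁻¹ * (F.P.map φ').Mm =
      ((F.P.map φ).Mm.submatrix id J)⁻¹ * (F.P.map φ).Mm := by
    rw [hMmg f', hMmg f]
    ext i j
    exact (hff ⟨_, entryMm_mem F I J Ds i j⟩).symm
  have gt := gtrans_of_eq F I J u u' ha hM hMm
  set X0 := (F.P.map φ').M.submatrix id I * ((F.P.map φ).M.submatrix id I)⁻¹ with hX0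
  set Xm0 := (F.P.map φ').Mm.submatrix id J * ((F.P.map φ).Mm.submatrix id J)⁻¹ with hXm0
  have uX0 : IsUnit X0.det := by
    rw [hX0, Matrix.det_mul]
    exact (unitM F I J u').mul (Matrix.isUnit_nonsing_inv_det _ (unitM F I J u))
  have uXm0 : IsUnit Xm0.det := by
    rw [hXm0, Matrix.det_mul]
    exact (unitMm F I J u').mul (Matrix.isUnit_nonsing_inv_det _ (unitMm F I J u))
  obtain ⟨h, ⟨h1, h2⟩, hu⟩ := hU T X0.transpose Xm0.transpose (by rwa [Matrix.det_transpose])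
    (by rwa [Matrix.det_transpose])
  refine ⟨h, ?_, ?_⟩
  · have e : φ' = (gg F Ds f h).comp (rho F hX hXm : F.R →+* F.R ⊗[Lb] O) := by
      refine rho_unique F hX hXm (gg F Ds f h) φ' ?_
      rw [gg_inl, gg_inr]
      have e1 : (X.map (h : O →+* T)).transpose = X0 := by
        have : X.map (h : O →+* T) = X0.transpose := h1
        rw [this, Matrix.transpose_transpose]
      have e2 : (Xm.map (h : O →+* T)).transpose = Xm0 := by
        have : Xm.map (h : O →+* T) = Xm0.transpose := h2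
        rw [this, Matrix.transpose_transpose]
      rw [e1, e2]
      exact gt
    have key : (f' : Ds →+* T) = (((pair f h).comp (gcs F I J hX hXm Ds).ρ : Ds →ₐ[Lb] T) : Ds →+* T) := by
      refine IsLocalization.ringHom_ext (Submonoid.powers (sIJ F I J)) (RingHom.ext fun r => ?_)
      change φ' r = pair f h ((gcs F I J hX hXm Ds).ρ (algebraMap F.R Ds r))
      rw [gg_rho, e]
      rfl
    exact fun d => RingHom.congr_fun key d
  · intro h' hh'
    have e : (gg F Ds f h').comp (rho F hX hXm : F.R →+* F.R ⊗[Lb] O) = φ' := by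
      refine RingHom.ext fun r => ?_
      change gg F Ds f h' (rho F hX hXm r) = f' (algebraMap F.R Ds r)
      rw [hh', gg_rho]
    have gt' := gg_trans F hX hXm Ds f h'
    rw [e] at gt'
    refine hu h' ⟨?_, ?_⟩
    · have e1 : X0 = (X.map h').transpose := by
        rw [hX0, gtrans_slice F I gt', Matrix.mul_assoc, Matrix.mul_nonsing_inv _ (unitM F I J u), Matrix.mul_one]
      rw [e1, Matrix.transpose_transpose]
    · have e1 : Xm0 = (Xm.map h').transpose := by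
        rw [hXm0, gtrans_slicem F J gt', Matrix.mul_assoc, Matrix.mul_nonsing_inv _ (unitMm F I J u), Matrix.mul_one]
      rw [e1, Matrix.transpose_transpose]

/-! ### faithful flatness: `Ds ≃ BIJ ⊗ O` -/

section FF

include hU in
theorem exists_γ : ∃ γ : O →ₐ[Lb] Ds, X.map γ = ((F.P.map (algebraMap F.R Ds)).M.submatrix id I).transpose ∧
    Xm.map γ = ((F.P.map (algebraMap F.R Ds)).Mm.submatrix id J).transpose :=
  (hU Ds _ _ (by rw [Matrix.det_transpose]; exact unitM F I J (isUnit_s F I J Ds))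
    (by rw [Matrix.det_transpose]; exact unitMm F I J (isUnit_s F I J Ds))).exists

instance towerB : IsScalarTower Lb (BIJ F I J Ds) Ds := IsScalarTower.of_algebraMap_eq fun _ => rfl

/-- the slice as a map of `Lb`-algebras -/
def retk : Ds →ₐ[Lb] BIJ F I J Ds := (retA F I J Ds).restrictScalars Lb

theorem retk_alg (r : F.R) : (retk F I J Ds (algebraMap F.R Ds r) : Ds) = slice0 F I J Ds r := ret_alg F I J Ds r

/-- `Ds → BIJ ⊗ O` -/
def Ξ : Ds →ₐ[Lb] BIJ F I J Ds ⊗[Lb] O :=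
  (Algebra.TensorProduct.map (retk F I J Ds) (AlgHom.id Lb O)).comp (gcs F I J hX hXm Ds).ρ

/-- `BIJ ⊗ O → Ds` -/
def Θ (γ : O →ₐ[Lb] Ds) : BIJ F I J Ds ⊗[Lb] O →ₐ[BIJ F I J Ds] Ds :=
  Algebra.TensorProduct.lift (Algebra.ofId (BIJ F I J Ds) Ds) γ (fun _ _ => Commute.all _ _)

theorem Θ_tmul (γ : O →ₐ[Lb] Ds) (b : BIJ F I J Ds) (o : O) : Θ F I J Ds γ (b ⊗ₜ[Lb] o) = (b : Ds) * γ o :=
  Algebra.TensorProduct.lift_tmul _ _ _ _ _

theorem Ξ_B (b : BIJ F I J Ds) : Ξ F I J hX hXm Ds (b : Ds) = b ⊗ₜ[Lb] (1 : O) := by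
  rw [Ξ, AlgHom.comp_apply, gfix, Algebra.TensorProduct.map_tmul, AlgHom.id_apply]
  congr 1
  exact retA_coe F I J Ds b

theorem ret_delta (d b : Fin F.r1) : retk F I J Ds (algebraMap F.R Ds (F.P.M d (I b))) = if d = b then 1 else 0 := by
  apply Subtype.ext
  rw [retk_alg]
  have h : slice0 F I J Ds (F.P.M d (I b)) = (1 : Matrix (Fin F.r1) (Fin F.r1) Ds) d b :=
    congrFun (congrFun (slice0_MI F I J Ds) d) b
  rw [h, Matrix.one_apply]
  split_ifs <;> rfl

theorem ret_deltam (d b : Fin F.rm) : retk F I J Ds (algebraMap F.R Ds (F.P.Mm d (J b))) = if d = b then 1 else 0 := by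
  apply Subtype.ext
  rw [retk_alg]
  have h : slice0 F I J Ds (F.P.Mm d (J b)) = (1 : Matrix (Fin F.rm) (Fin F.rm) Ds) d b :=
    congrFun (congrFun (slice0_MmJ F I J Ds) d) b
  rw [h, Matrix.one_apply]
  split_ifs <;> rfl

theorem Ξ_M (c b : Fin F.r1) : Ξ F I J hX hXm Ds (algebraMap F.R Ds (F.P.M c (I b))) = 1 ⊗ₜ[Lb] X b c := by
  rw [Ξ, AlgHom.comp_apply, gcs_compat, rho_M, map_sum, map_sum]
  rw [Finset.sum_eq_single b]
  · rw [Algebra.TensorProduct.map_tmul, Algebra.TensorProduct.map_tmul, AlgHom.id_apply, AlgHom.id_apply]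
    congr 1
    refine (ret_delta F I J Ds b b).trans ?_
    rw [if_pos rfl]
  · intro d _ hd
    rw [Algebra.TensorProduct.map_tmul, Algebra.TensorProduct.map_tmul]
    have : retk F I J Ds ((IsScalarTower.toAlgHom Lb F.R Ds) (F.P.M d (I b))) = 0 := by
      refine (ret_delta F I J Ds d b).trans ?_
      rw [if_neg hd]
    rw [this, TensorProduct.zero_tmul]
  · exact fun h => absurd (Finset.mem_univ _) h

theorem Ξ_Mm (c b : Fin F.rm) : Ξ F I J hX hXm Ds (algebraMap F.R Ds (F.P.Mm c (J b))) = 1 ⊗ₜ[Lb] Xm b c := by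
  rw [Ξ, AlgHom.comp_apply, gcs_compat, rho_Mm, map_sum, map_sum]
  rw [Finset.sum_eq_single b]
  · rw [Algebra.TensorProduct.map_tmul, Algebra.TensorProduct.map_tmul, AlgHom.id_apply, AlgHom.id_apply]
    congr 1
    refine (ret_deltam F I J Ds b b).trans ?_
    rw [if_pos rfl]
  · intro d _ hd
    rw [Algebra.TensorProduct.map_tmul, Algebra.TensorProduct.map_tmul]
    have : retk F I J Ds ((IsScalarTower.toAlgHom Lb F.R Ds) (F.P.Mm d (J b))) = 0 := by
      refine (ret_deltam F I J Ds d b).trans ?_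
      rw [if_neg hd]
    rw [this, TensorProduct.zero_tmul]
  · exact fun h => absurd (Finset.mem_univ _) h

include hU in
theorem Ξ_γ (γ : O →ₐ[Lb] Ds) (h1 : X.map γ = ((F.P.map (algebraMap F.R Ds)).M.submatrix id I).transpose)
    (h2 : Xm.map γ = ((F.P.map (algebraMap F.R Ds)).Mm.submatrix id J).transpose) (o : O) :
    Ξ F I J hX hXm Ds (γ o) = 1 ⊗ₜ[Lb] o := by
  have e1 : X.map ((Ξ F I J hX hXm Ds).comp γ) =
      X.map (Algebra.TensorProduct.includeRight : O →ₐ[Lb] BIJ F I J Ds ⊗[Lb] O) := by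
    ext b c
    have := congrFun (congrFun h1 b) c
    change Ξ F I J hX hXm Ds (γ (X b c)) = 1 ⊗ₜ[Lb] X b c
    rw [← Ξ_M F I J hX hXm Ds c b]
    exact congrArg _ this
  have e2 : Xm.map ((Ξ F I J hX hXm Ds).comp γ) =
      Xm.map (Algebra.TensorProduct.includeRight : O →ₐ[Lb] BIJ F I J Ds ⊗[Lb] O) := by
    ext b c
    have := congrFun (congrFun h2 b) c
    change Ξ F I J hX hXm Ds (γ (Xm b c)) = 1 ⊗ₜ[Lb] Xm b c
    rw [← Ξ_Mm F I J hX hXm Ds c b]
    exact congrArg _ this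
  have u1 : IsUnit (X.map (Algebra.TensorProduct.includeRight : O →ₐ[Lb] BIJ F I J Ds ⊗[Lb] O)).det := by
    have := hX.unit.map (Algebra.TensorProduct.includeRight : O →ₐ[Lb] BIJ F I J Ds ⊗[Lb] O)
    rwa [AlgHom.map_det, AlgHom.mapMatrix_apply] at this
  have u2 : IsUnit (Xm.map (Algebra.TensorProduct.includeRight : O →ₐ[Lb] BIJ F I J Ds ⊗[Lb] O)).det := by
    have := hXm.unit.map (Algebra.TensorProduct.includeRight : O →ₐ[Lb] BIJ F I J Ds ⊗[Lb] O)
    rwa [AlgHom.map_det, AlgHom.mapMatrix_apply] at this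
  have := (hU _ _ _ u1 u2).unique ⟨e1, e2⟩ ⟨rfl, rfl⟩
  exact DFunLike.congr_fun this o

/-- **`Ds → BIJ ⊗ O → Ds` is the identity** -/
theorem Θ_Ξ (γ : O →ₐ[Lb] Ds) (h1 : X.map γ = ((F.P.map (algebraMap F.R Ds)).M.submatrix id I).transpose)
    (h2 : Xm.map γ = ((F.P.map (algebraMap F.R Ds)).Mm.submatrix id J).transpose) (d : Ds) :
    Θ F I J Ds γ (Ξ F I J hX hXm Ds d) = d := by
  -- `f` = the slice, as an endomorphism of `Ds`
  let f : Ds →ₐ[Lb] Ds := ((BIJ F I J Ds).val.restrictScalars Lb).comp (retk F I J Ds)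
  have hf : (f : Ds →+* Ds).comp (algebraMap F.R Ds) = slice0 F I J Ds := RingHom.ext fun r => retk_alg F I J Ds r
  have e0 : ∀ z : Ds ⊗[Lb] O, Θ F I J Ds γ (Algebra.TensorProduct.map (retk F I J Ds) (AlgHom.id Lb O) z) =
      pair f γ z := by
    intro z
    induction z using TensorProduct.induction_on with
    | zero => simp only [map_zero]
    | add x y hx hy => simp only [map_add, hx, hy]
    | tmul a b =>
      rw [Algebra.TensorProduct.map_tmul, Θ_tmul, pair, Algebra.TensorProduct.lift_tmul]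
      rfl
  have gt := gg_trans F hX hXm Ds f γ
  rw [hf, h1, h2, Matrix.transpose_transpose, Matrix.transpose_transpose] at gt
  have gt2 := IsGTrans.trans (slice0_spec F I J Ds) gt
  rw [Matrix.mul_nonsing_inv _ (unitM F I J (isUnit_s F I J Ds)),
    Matrix.mul_nonsing_inv _ (unitMm F I J (isUnit_s F I J Ds))] at gt2
  have e1 : (gg F Ds f γ).comp (rho F hX hXm : F.R →+* F.R ⊗[Lb] O) = algebraMap F.R Ds :=
    hom_ext F (IsGTrans.unique isUnit_one gt2 (IsGTrans.one _))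
  have key : ((Θ F I J Ds γ : BIJ F I J Ds ⊗[Lb] O →+* Ds)).comp
      (Ξ F I J hX hXm Ds : Ds →+* BIJ F I J Ds ⊗[Lb] O) = RingHom.id Ds := by
    refine IsLocalization.ringHom_ext (Submonoid.powers (sIJ F I J)) (RingHom.ext fun r => ?_)
    change Θ F I J Ds γ (Algebra.TensorProduct.map (retk F I J Ds) (AlgHom.id Lb O)
      ((gcs F I J hX hXm Ds).ρ (algebraMap F.R Ds r))) = algebraMap F.R Ds r
    rw [e0, gg_rho, ← e1]
    rfl
  exact RingHom.congr_fun key d

include hU hX hXm in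
/-- **`BIJ → Ds` is faithfully flat** -/
theorem gff [Module.FaithfullyFlat Lb O] : Module.FaithfullyFlat (BIJ F I J Ds) Ds := by
  obtain ⟨γ, h1, h2⟩ := exists_γ F I J hU Ds
  have hb : Function.Bijective (Θ F I J Ds γ) := by
    constructor
    · have hl : ∀ z, Ξ F I J hX hXm Ds (Θ F I J Ds γ z) = z := by
        intro z
        induction z using TensorProduct.induction_on with
        | zero => rw [map_zero, map_zero]
        | add x y hx hy => rw [map_add, map_add, hx, hy]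
        | tmul a b =>
          rw [Θ_tmul, map_mul, Ξ_B, Ξ_γ F I J hX hXm hU Ds γ h1 h2, Algebra.TensorProduct.tmul_mul_tmul, mul_one,
            one_mul]
      exact Function.LeftInverse.injective hl
    · exact fun d => ⟨_, Θ_Ξ F I J hX hXm Ds γ h1 h2 d⟩
  exact Module.FaithfullyFlat.of_linearEquiv (BIJ F I J Ds) (BIJ F I J Ds ⊗[Lb] O)
    (LinearEquiv.ofBijective (Θ F I J Ds γ).toLinearMap hb).symm

end FF

end

section Final

variable {A B : Type u} [CommRing A] [CommRing B] {Lb : Type u} [CommRing Lb] [Algebra Lb A] {G : RGrpd A B}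
  {D : Gen Lb G} {k : Type u} [Field k] {x : A →+* k} (F : FrRing D x)
  {O : Type u} [CommRing O] [HopfAlgebra Lb O] {X : Matrix (Fin F.r1) (Fin F.r1) O}
  {Xm : Matrix (Fin F.rm) (Fin F.rm) O} (hX : IsMulMat Lb X) (hXm : IsMulMat Lb Xm) (hU : IsUnivGL Lb X Xm)
  [Module.FaithfullyFlat Lb O] (z : (Fin F.r1 → Fin D.n) × (Fin F.rm → (Fin D.m → Fin D.n)))

section

variable (Ds : Type u) [CommRing Ds] [Algebra F.R Ds] [Algebra A Ds] [Algebra Lb Ds] [IsScalarTower A F.R Ds]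
  [IsScalarTower Lb F.R Ds] [IsScalarTower Lb A Ds]

/-- **the `G`-part** with any model `Ds` of `F.R[1/s_IJ]` -/
def gpartL' (h1 : IsLocalization.Away (sIJ F z.1 z.2) Ds) : LocK A (coAlg F hX hXm) (sIJ F z.1 z.2) :=
  haveI := gff F z.1 z.2 hX hXm hU Ds
  { Ds := Ds
    cs := gcs F z.1 z.2 hX hXm Ds
    compat := gcs_compat F z.1 z.2 hX hXm Ds
    B := BIJ F z.1 z.2 Ds
    fix := gfix F z.1 z.2 hX hXm Ds
    pts := gpts F z.1 z.2 hX hXm hU Ds }

end

/-- **the `G`-part**: `LocK` of `F.R` at `s_IJ` -/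
def gpartL : LocK A (coAlg F hX hXm) (K819.sIJ F z) :=
  gpartL' F hX hXm hU z (Localization.Away (sIJ F z.1 z.2)) inferInstance

theorem gpart_gen (b : (gpartL F hX hXm hU z).B) : b ∈ Algebra.adjoin A {y : (gpartL F hX hXm hU z).B | ∃ j,
      algebraMap (gpartL F hX hXm hU z).B (gpartL F hX hXm hU z).Ds y *
        algebraMap F.R (gpartL F hX hXm hU z).Ds (K819.sIJ F z) =
      algebraMap F.R (gpartL F hX hXm hU z).Ds (K819.sIJ F j)} := by
  refine Algebra.adjoin_mono ?_ (adjoin_eq F z.1 z.2 (Localization.Away (sIJ F z.1 z.2)) b)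
  rintro y ⟨I', J', h⟩
  exact ⟨(I', J'), h⟩

end Final

end Groth.Agent.ResProp.EF.K541
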