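import Groth.Prelude.Def_Hoch
import Groth.Agent.Hoch.K915.BaseChange

/-!
# The Hochschild complex over `L` of an `R`-linear comodule is its Hochschild complex over `R`

`L → R` commutative rings, `O` a bialgebra over `L`, `N` an `R`-module with an `R`-linear coaction
`N → N ⊗[L] O`.  Then `N` is a comodule over the `R`-bialgebra `R ⊗[L] O` (`comodR`) and the two
complexes of cochains agree (`e`, `e_d`), so do cocycles, coboundaries, cohomology.
-/

set_option autoImplicit false

open TensorProduct

namespace Groth.Agent.ResProp.EF.K541.HochBC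

universe u

section Ext

variable (L R O : Type u) [CommRing L] [CommRing R] [Algebra L R] [AddCommGroup O] [Module L O]

/-- `a ↦ 1 ⊗ a`. -/
noncomputable def inc : O →ₛₗ[algebraMap L R] R ⊗[L] O where
  toFun a := (1 : R) ⊗ₜ[L] a
  map_add' a b := TensorProduct.tmul_add _ _ _
  map_smul' l a := by
    rw [TensorProduct.smul_tmul', smul_eq_mul, mul_one, ← TensorProduct.smul_tmul,
      Algebra.smul_def, mul_one]

theorem inc_apply (a : O) : inc L R O a = (1 : R) ⊗ₜ[L] a := rfl

variable {L R}
variable {X Y : Type u} [AddCommGroup X] [Module L X] [AddCommGroup Y] [Module R Y]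

/-- `x ⊗ a ↦ f x ⊗ (1 ⊗ a)`. -/
noncomputable def ext (f : X →ₛₗ[algebraMap L R] Y) :
    X ⊗[L] O →ₛₗ[algebraMap L R] Y ⊗[R] (R ⊗[L] O) :=
  TensorProduct.map f (inc L R O)

variable {O}

theorem ext_tmul (f : X →ₛₗ[algebraMap L R] Y) (x : X) (a : O) :
    ext O f (x ⊗ₜ[L] a) = f x ⊗ₜ[R] ((1 : R) ⊗ₜ[L] a) := rfl

theorem ext_bijective (f : X →ₛₗ[algebraMap L R] Y) (hf : Function.Bijective f) :
    Function.Bijective (ext O f) := by
  let : Module L Y := Module.compHom Y (algebraMap L R)
  have : IsScalarTower L R Y := ⟨fun l r y => by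
    rw [Algebra.smul_def, mul_smul]; rfl⟩
  let f' : X →ₗ[L] Y := { toFun := f, map_add' := map_add f, map_smul' := fun l x => map_smulₛₗ f l x }
  let e : X ≃ₗ[L] Y := LinearEquiv.ofBijective f' hf
  have h : (ext O f : X ⊗[L] O → Y ⊗[R] (R ⊗[L] O)) =
      (AlgebraTensorModule.cancelBaseChange L R R Y O).symm ∘ (e.rTensor O) := by
    funext z
    induction z with
    | zero => simp
    | add x y hx hy => rw [map_add, hx, hy]; simp
    | tmul x a =>
      rw [Function.comp_apply, LinearEquiv.rTensor_tmul, ext_tmul, LinearEquiv.eq_symm_apply]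
      rw [AlgebraTensorModule.cancelBaseChange_tmul, one_smul]
      rfl
  rw [h]
  exact (LinearEquiv.bijective _).comp (LinearEquiv.bijective _)

theorem ext_smul [Module R X] [IsScalarTower L R X] (f : X →ₛₗ[algebraMap L R] Y)
    (hf : ∀ (r : R) (x : X), f (r • x) = r • f x) (r : R) (z : X ⊗[L] O) :
    ext O f (r • z) = r • ext O f z := by
  induction z with
  | zero => simp
  | add x y hx hy => rw [smul_add, map_add, hx, hy, map_add, smul_add]
  | tmul x a => rw [TensorProduct.smul_tmul', ext_tmul, hf, ext_tmul, TensorProduct.smul_tmul']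

variable {X' Y' : Type u} [AddCommGroup X'] [Module L X'] [AddCommGroup Y'] [Module R Y']

theorem ext_rTensor (f : X →ₛₗ[algebraMap L R] Y) (f' : X' →ₛₗ[algebraMap L R] Y')
    (D : X →ₗ[L] X') (E : Y →ₗ[R] Y') (h : ∀ x, f' (D x) = E (f x)) (z : X ⊗[L] O) :
    ext O f' (D.rTensor O z) = E.rTensor (R ⊗[L] O) (ext O f z) := by
  induction z with
  | zero => simp
  | add x y hx hy => simp only [map_add, hx, hy]
  | tmul x a => rw [LinearMap.rTensor_tmul, ext_tmul, ext_tmul, LinearMap.rTensor_tmul, h]

end Ext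

section Bialg

variable {L R O : Type u} [CommRing L] [CommRing R] [Algebra L R] [CommRing O] [Bialgebra L O]
variable {X Y : Type u} [AddCommGroup X] [Module L X] [AddCommGroup Y] [Module R Y]

theorem ext_ext_assoc (f : X →ₛₗ[algebraMap L R] Y) (x : X) (w : O ⊗[L] O) :
    ext O (ext O f) ((TensorProduct.assoc L X O O).symm (x ⊗ₜ[L] w)) =
      (TensorProduct.assoc R Y (R ⊗[L] O) (R ⊗[L] O)).symm (f x ⊗ₜ[R]
        AlgebraTensorModule.distribBaseChange L R O O ((1 : R) ⊗ₜ[L] w)) := by
  induction w with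
  | zero => simp
  | add x y hx hy => simp only [TensorProduct.tmul_add, map_add, hx, hy]
  | tmul a b =>
    rw [TensorProduct.assoc_symm_tmul, ext_tmul, ext_tmul, K915.HochBC.distrib_tmul,
      TensorProduct.assoc_symm_tmul]

theorem ext_ext_comul (f : X →ₛₗ[algebraMap L R] Y) (z : X ⊗[L] O) :
    ext O (ext O f) ((TensorProduct.assoc L X O O).symm
      ((CoalgebraStruct.comul (R := L) (A := O)).lTensor X z)) =
      (TensorProduct.assoc R Y (R ⊗[L] O) (R ⊗[L] O)).symm
        ((CoalgebraStruct.comul (R := R) (A := R ⊗[L] O)).lTensor Y (ext O f z)) := by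
  induction z with
  | zero => simp
  | add x y hx hy => simp only [map_add, hx, hy]
  | tmul x a =>
    rw [LinearMap.lTensor_tmul, ext_ext_assoc, ext_tmul, LinearMap.lTensor_tmul,
      K915.HochBC.comul_one_tmul]

theorem ext_ext_tail (f : X →ₛₗ[algebraMap L R] Y) (z : X ⊗[L] O) :
    ext O (ext O f) (Hoch.tail L O X z) = Hoch.tail R (R ⊗[L] O) Y (ext O f z) := by
  induction z with
  | zero => simp
  | add x y hx hy => simp only [map_add, hx, hy]
  | tmul x a =>
    rw [Hoch.tail_tmul, ext_ext_assoc, ext_tmul, Hoch.tail_tmul, K915.HochBC.comul_one_tmul,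
      TensorProduct.tmul_sub, TensorProduct.tmul_sub, map_sub, map_sub, K915.HochBC.distrib_tmul,
      K915.HochBC.distrib_tmul]
    rfl

end Bialg

section Comod

variable (L R O N : Type u) [CommRing L] [CommRing R] [Algebra L R] [CommRing O] [Bialgebra L O]
  [AddCommGroup N] [Module L N] [Module R N] [IsScalarTower L R N] [HopfRep.Comod L O N]

/-- the identity of `N` as a semilinear map -/
def idS : N →ₛₗ[algebraMap L R] N where
  toFun n := n
  map_add' _ _ := rfl
  map_smul' l n := (algebraMap_smul R l n).symm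

/-- the coaction is `R`-linear -/
def CoactLin : Prop := ∀ (r : R) (n : N),
  HopfRep.Comod.coact (k := L) (A := O) (r • n) = r • HopfRep.Comod.coact (k := L) (A := O) n

variable {L R O N}

/-- the coaction of `R ⊗ O` -/
noncomputable def coactR (h : CoactLin L R O N) : N →ₗ[R] N ⊗[R] (R ⊗[L] O) where
  toFun n := ext O (idS L R N) (HopfRep.Comod.coact (k := L) (A := O) n)
  map_add' a b := by rw [map_add, map_add]
  map_smul' r n := by
    rw [h r n, ext_smul (idS L R N) (fun _ _ => rfl)]
    rfl

theorem coactR_apply (h : CoactLin L R O N) (n : N) :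
    coactR h n = ext O (idS L R N) (HopfRep.Comod.coact (k := L) (A := O) n) := rfl

/-- an `R`-linear `O`-comodule is an `R ⊗ O`-comodule -/
@[reducible] noncomputable def comodR (h : CoactLin L R O N) : HopfRep.Comod R (R ⊗[L] O) N where
  coact := coactR h
  coassoc := by
    refine LinearMap.ext fun n => ?_
    have h1 := LinearMap.congr_fun (HopfRep.Comod.coassoc (k := L) (A := O) (V := N)) n
    simp only [LinearMap.comp_apply, LinearEquiv.coe_coe] at h1 ⊢
    rw [← LinearEquiv.eq_symm_apply, coactR_apply, ← ext_ext_comul, ← h1, LinearEquiv.symm_apply_apply,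
      ← ext_rTensor (idS L R N) (ext O (idS L R N)) (HopfRep.Comod.coact (k := L) (A := O)) (coactR h)
        (fun x => rfl)]
  counit_comp := by
    refine LinearMap.ext fun n => ?_
    have h1 := LinearMap.congr_fun (HopfRep.Comod.counit_comp (k := L) (A := O) (V := N)) n
    simp only [LinearMap.comp_apply, LinearMap.flip_apply, TensorProduct.mk_apply] at h1 ⊢
    have h2 : ∀ z : N ⊗[L] O, (CoalgebraStruct.counit (R := R) (A := R ⊗[L] O)).lTensor N
        (ext O (idS L R N) z) = TensorProduct.map (idS L R N) (algebraMap L R).toSemilinearMap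
          ((CoalgebraStruct.counit (R := L) (A := O)).lTensor N z) := by
      intro z
      induction z with
      | zero => simp
      | add x y hx hy => simp only [map_add, hx, hy]
      | tmul x a =>
        rw [ext_tmul, LinearMap.lTensor_tmul, LinearMap.lTensor_tmul, TensorProduct.map_tmul]
        congr 1
        rw [RingHom.toSemilinearMap_apply]
        simp [Algebra.algebraMap_eq_smul_one]
    rw [coactR_apply, h2, h1, TensorProduct.map_tmul]
    simp [idS]

/-- the cochains -/
noncomputable def e (h : CoactLin L R O N) : (n : ℕ) →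
    ((Hoch.cochain L O N n : Type u) →ₛₗ[algebraMap L R] (Hoch.cochain R (R ⊗[L] O) N n : Type u))
  | 0 => idS L R N
  | n + 1 => ext O (e h n)

theorem e_zero (h : CoactLin L R O N) (x : N) : e h 0 x = x := rfl

theorem e_succ_tmul (h : CoactLin L R O N) (n : ℕ) (x : Hoch.cochain L O N n) (a : O) :
    e h (n + 1) (x ⊗ₜ[L] a) = e h n x ⊗ₜ[R] ((1 : R) ⊗ₜ[L] a) := rfl

theorem e_bijective (h : CoactLin L R O N) : (n : ℕ) → Function.Bijective (e h n)
  | 0 => Function.bijective_id
  | n + 1 => ext_bijective (e h n) (e_bijective h n)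

/-- the differentials -/
theorem e_d (h : CoactLin L R O N) (n : ℕ) (x : Hoch.cochain L O N n) :
    letI := comodR h
    e h (n + 1) (Hoch.d L O N n x) = Hoch.d R (R ⊗[L] O) N n (e h n x) := by
  let := comodR h
  induction n with
  | zero =>
    change ext O (idS L R N) (HopfRep.Comod.coact (k := L) (A := O) x - x ⊗ₜ[L] (1 : O)) =
      coactR h x - x ⊗ₜ[R] (1 : R ⊗[L] O)
    rw [map_sub, ext_tmul]
    rfl
  | succ n ih =>
    change ext O (ext O (e h n)) (((Hoch.d L O N n).rTensor O +
      ((-1 : L) ^ (n + 1)) • Hoch.tail L O (Hoch.cochain L O N n)) x) =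
      ((Hoch.d R (R ⊗[L] O) N n).rTensor (R ⊗[L] O) +
      ((-1 : R) ^ (n + 1)) • Hoch.tail R (R ⊗[L] O) (Hoch.cochain R (R ⊗[L] O) N n)) (ext O (e h n) x)
    rw [LinearMap.add_apply, LinearMap.add_apply, map_add, LinearMap.smul_apply,
      LinearMap.smul_apply, map_smulₛₗ, ext_ext_tail, map_pow, map_neg, map_one]
    congr 1
    exact ext_rTensor (e h n) (ext O (e h n)) (Hoch.d L O N n) (Hoch.d R (R ⊗[L] O) N n) ih x

end Comod

end Groth.Agent.ResProp.EF.K541.HochBC
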